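/-
The dichotomy of Theorem B on the radical quotient of one central character, for a `q`-group with a
central subgroup fixed by the element of order `p`; the exceptional case determines that quotient.
-/
import Mathlib
import Cfsg.Agent.Lib.HallHigmanB.Core

set_option autoImplicit false
set_option linter.unusedSectionVars false
set_option linter.style.haveILetI false

namespace Cfsg.Agent.Lib.PLengthTwoE

open Module Cfsg.Agent.Lib.FpfHeight Cfsg.Agent.Lib.HallHigmanB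

variable {k : Type*} [Field k] [IsAlgClosed k] {M : Type*} [AddCommGroup M] [Module k M]
  [FiniteDimensional k M] {Q : Type*} [Group Q] [Finite Q] {p : ℕ} [hp : Fact p.Prime] [CharP k p]

/-- Theorem B for one central character. -/
theorem radical_dichotomy {q n : ℕ} [Fact q.Prime] (hqp : q ≠ p) (hQ : IsPGroup q Q)
    (β : MulAut Q) (hβ : β ^ p ^ (n + 1) = 1) (Z : Subgroup Q) (hZc : Z ≤ Subgroup.center Q)
    (hcomZ : ∀ u v : Q, u * v * u⁻¹ * v⁻¹ ∈ Z) (hZβ : ∀ z ∈ Z, β z ∈ Z)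
    (μ : Z →* k) (hne : ∃ u v : Q, μ ⟨_, hcomZ u v⟩ ≠ 1)
    (hsemi0 : ∀ u : Q, (∀ v, μ ⟨_, hcomZ (u⁻¹ * (β ^ p ^ n) u) v⟩ = 1) →
      ∀ v, μ ⟨_, hcomZ u v⟩ = 1)
    (ρ : Q →* Module.End k M) (X : Module.End k M) (hX : X ^ p ^ (n + 1) = 1)
    (hXρ : ∀ u, X * ρ u = ρ (β u) * X) (w₀ : M) (hw₀0 : w₀ ≠ 0)
    (hμw : ∀ z : Z, ρ z w₀ = μ z • w₀) :
    (X - 1) ^ (p ^ (n + 1) - 1) ≠ 0 ∨ ∃ l e d, n = l + e ∧ 1 ≤ d ∧
      q ^ d = p ^ (e + 1) - 1 ∧
      (∀ z : Z, ∀ h : (β ^ p ^ l) z ∈ Z, μ ⟨_, h⟩ = μ z) ∧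
      ∀ R : Subgroup Q, (∀ u, u ∈ R ↔ ∀ v, μ ⟨_, hcomZ u v⟩ = 1) →
        R.index = q ^ d * q ^ d := by
  classical
  haveI := hQ.isNilpotent
  haveI : Fintype Z := Fintype.ofFinite Z
  set ρZ := ρ.comp Z.subtype with hρZ
  have hcardZ : (Nat.card Z : k) ≠ 0 := natCast_card_ne_zero hqp (hQ.to_subgroup Z)
  -- the radical
  let χ : Q → Q → k := fun u v => μ ⟨_, hcomZ u v⟩
  have hχmul : ∀ a b v, χ (a * b) v = χ a v * χ b v := fun a b v => by
    show μ _ = μ _ * μ _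
    rw [mul_comm (μ _) (μ _), ← map_mul]
    refine congrArg μ (Subtype.ext ?_)
    show a * b * v * (a * b)⁻¹ * v⁻¹ = (b * v * b⁻¹ * v⁻¹) * (a * v * a⁻¹ * v⁻¹)
    calc a * b * v * (a * b)⁻¹ * v⁻¹
        = a * (b * v * b⁻¹ * v⁻¹) * a⁻¹ * (a * v * a⁻¹ * v⁻¹) := by group
      _ = (b * v * b⁻¹ * v⁻¹) * (a * v * a⁻¹ * v⁻¹) := by
        rw [Subgroup.mem_center_iff.mp (hZc (hcomZ b v)) a]
        group
  have hχsymm : ∀ a b, χ a b * χ b a = 1 := fun a b => by
    show μ _ * μ _ = 1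
    rw [← map_mul, ← map_one μ]
    refine congrArg μ (Subtype.ext ?_)
    show a * b * a⁻¹ * b⁻¹ * (b * a * b⁻¹ * a⁻¹) = 1
    group
  have hχZ : ∀ z ∈ Z, ∀ v, χ z v = 1 := fun z hz v => by
    show μ _ = 1
    rw [← map_one μ]
    refine congrArg μ (Subtype.ext ?_)
    show z * v * z⁻¹ * v⁻¹ = 1
    rw [← Subgroup.mem_center_iff.mp (hZc hz) v, mul_inv_cancel_right, mul_inv_cancel]
  let R : Subgroup Q :=
    { carrier := {u | ∀ v, χ u v = 1}
      mul_mem' := fun {a b} ha hb v => by rw [hχmul, ha, hb, one_mul]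
      one_mem' := fun v => hχZ 1 (one_mem _) v
      inv_mem' := fun {a} ha v => by
        have := hχmul a⁻¹ a v
        rw [inv_mul_cancel, hχZ 1 (one_mem _) v, ha, mul_one] at this
        exact this.symm }
  have hZR : Z ≤ R := fun z hz v => hχZ z hz v
  haveI hRn : R.Normal := ⟨fun r hr g => by
    have := R.mul_mem (hZR (hcomZ g r)) hr
    rwa [inv_mul_cancel_right] at this⟩
  haveI : Fintype R := Fintype.ofFinite R
  have hcardR : (Nat.card R : k) ≠ 0 := natCast_card_ne_zero hqp (hQ.to_subgroup R)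
  -- the commutative action of the radical on the `μ`-space
  set ρR := ρ.comp R.subtype with hρR
  set Vμ := OddPower.eigSub ρZ μ with hVμ
  have hmemμ : w₀ ∈ Vμ := OddPower.mem_eigSub.mpr hμw
  have hswap : ∀ a b : Q, ∀ v ∈ Vμ, ρ a (ρ b v) = χ a b • ρ b (ρ a v) := by
    intro a b v hv
    rw [← Module.End.mul_apply, ← map_mul, ← Module.End.mul_apply (ρ b), ← map_mul,
      show a * b = b * a * (a * b * a⁻¹ * b⁻¹) by
        rw [Subgroup.mem_center_iff.mp (hZc (hcomZ a b)) (b * a)]; group,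
      map_mul ρ (b * a), Module.End.mul_apply]
    have h1 : ρ (a * b * a⁻¹ * b⁻¹) v = χ a b • v := OddPower.mem_eigSub.mp hv ⟨_, hcomZ a b⟩
    rw [h1, map_smul]
  have hinvμ : ∀ a : Q, ∀ v ∈ Vμ, ρ a v ∈ Vμ := by
    intro a v hv
    refine OddPower.mem_eigSub.mpr fun z => ?_
    show ρ (z : Q) (ρ a v) = μ z • ρ a v
    rw [hswap _ _ v hv, hχZ _ z.2, one_smul,
      show ρ (z : Q) v = μ z • v from OddPower.mem_eigSub.mp hv z, map_smul]
  set ρRμ := OddPower.resRep ρR Vμ fun r => hinvμ r with hρRμ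
  obtain ⟨v₁, ν, -, hv₁, hνv⟩ := EigenChar.exists_common_eigenvector ρRμ
    (fun a b => LinearMap.ext fun v => Subtype.ext (by
      show ρ (a : Q) (ρ (b : Q) v) = ρ (b : Q) (ρ (a : Q) v)
      rw [hswap _ _ _ v.2, a.2 b, one_smul]))
    ⊤ (fun h => hw₀0 (by
      have := (Submodule.eq_bot_iff _).mp h ⟨w₀, hmemμ⟩ trivial
      exact congrArg Subtype.val this))
    (fun _ _ _ => trivial)
  have hνμ : ∀ z : Z, ν ⟨z, hZR z.2⟩ = μ z := by
    intro z
    have h1 := congrArg Subtype.val (hνv ⟨z, hZR z.2⟩)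
    have h2 : ρ (z : Q) (v₁ : M) = μ z • (v₁ : M) := OddPower.mem_eigSub.mp v₁.2 z
    rw [Submodule.coe_smul] at h1
    exact smul_left_injective k (fun h => hv₁ (Subtype.ext h)) (h1.symm.trans h2)
  set Vν := OddPower.eigSub ρR ν with hVν
  have hv₁ν : (v₁ : M) ∈ Vν :=
    OddPower.mem_eigSub.mpr fun r => congrArg Subtype.val (hνv r)
  -- the stabiliser of the character
  let Fix : ℕ → Prop := fun i => ∀ r : R, ∃ h : (β ^ i) r ∈ R, ν ⟨_, h⟩ = ν r
  have hFadd : ∀ {i j}, Fix i → Fix j → Fix (i + j) := fun {i j} hi hj r => by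
    obtain ⟨h1, e1⟩ := hj r
    obtain ⟨h2, e2⟩ := hi ⟨_, h1⟩
    have he : (β ^ (i + j)) r = (β ^ i) ((β ^ j) r) := by rw [pow_add, MulAut.mul_apply]
    exact ⟨he ▸ h2, by simp only [he]; exact e2.trans e1⟩
  have hF0 : Fix 0 := fun r => ⟨r.2, rfl⟩
  have hFmul : ∀ {i}, Fix i → ∀ a, Fix (i * a) := fun {i} hi a => by
    induction a with
    | zero => exact hF0
    | succ a ih => exact hFadd ih hi
  have hFcongr : ∀ {i j}, β ^ i = β ^ j → Fix i → Fix j := fun {i j} he hi r => by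
    obtain ⟨h, e⟩ := hi r
    exact ⟨he ▸ h, by simp only [← he]; exact e⟩
  have hFtop : Fix (p ^ (n + 1)) := hFcongr (by rw [hβ, pow_zero]) hF0
  obtain ⟨l, hl, hlmin⟩ : ∃ l, Fix (p ^ l) ∧ ∀ a, a < l → ¬ Fix (p ^ a) :=
    ⟨Nat.find (p := fun l => Fix (p ^ l)) ⟨n + 1, hFtop⟩, Nat.find_spec (p := fun l => Fix (p ^ l)) _,
      fun a ha => Nat.find_min (p := fun l => Fix (p ^ l)) _ ha⟩
  have hln : l ≤ n + 1 := not_lt.mp fun h => hlmin _ h hFtop
  have hnofix : ∀ i, 0 < i → i < p ^ l → ¬ Fix i := by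
    intro i hi hil hFi
    obtain ⟨a, ha, hg⟩ := (Nat.dvd_prime_pow hp.out).mp (Nat.gcd_dvd_right i (p ^ (n + 1)))
    have hlt : Nat.gcd i (p ^ (n + 1)) < p ^ (n + 1) :=
      lt_of_le_of_lt (Nat.gcd_le_left _ hi)
        (hil.trans_le (Nat.pow_le_pow_right hp.out.pos hln))
    obtain ⟨m, -, hm⟩ := Nat.exists_mul_mod_eq_gcd hlt
    refine hlmin a ((Nat.pow_lt_pow_iff_right hp.out.one_lt).mp
      (hg ▸ lt_of_le_of_lt (Nat.gcd_le_left _ hi) hil)) ?_
    refine hFcongr ?_ (hFmul hFi m)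
    rw [pow_eq_pow_mod (i * m) hβ, hm, hg]
  -- the separating projection
  set π := twist ρR ν * twist ρZ μ with hπ
  have hVνμ : ∀ v ∈ Vν, ∀ z : Z, ρZ z v = μ z • v := fun v hv z => by
    rw [← hνμ]; exact OddPower.mem_eigSub.mp hv ⟨z, hZR z.2⟩
  have hπid : ∀ v ∈ Vν, π v = ((Nat.card Z : k) * (Nat.card R : k)) • v := fun v hv => by
    rw [hπ, Module.End.mul_apply, twist_apply_eigen ρZ μ (hVνμ v hv), map_smul,
      twist_apply_eigen ρR ν (OddPower.mem_eigSub.mp hv), smul_smul]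
  have hZinv : ∀ i, ∀ z ∈ Z, (β ^ i) z ∈ Z := fun i =>
    OddPower.pow_invariant β hZβ i
  have hπ0 : ∀ v ∈ Vν, ∀ i, 0 < i → i < p ^ l → π ((X ^ i) v) = 0 := by
    intro v hv i hi hil
    rw [hπ, Module.End.mul_apply]
    have heig : ∀ a : Q, ρ ((β ^ i) a) ((X ^ i) v) = (X ^ i) (ρ a v) := fun a => by
      rw [← Module.End.mul_apply, ← OddPower.pow_semiconj hXρ, Module.End.mul_apply]
    set σ := OddPower.subAut (β ^ i) Z (hZinv i)
    have hZe : ∀ z : Z, ρZ (σ z) ((X ^ i) v) = μ z • (X ^ i) v := fun z => by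
      show ρ ((β ^ i) (z : Q)) _ = _
      rw [heig, show ρ (z : Q) v = μ z • v from hVνμ v hv z, map_smul]
    by_cases hμi : ∀ z, μ (σ z) = μ z
    · have hRinv : ∀ r ∈ R, (β ^ i) r ∈ R := fun r hr v' => by
        obtain ⟨v', rfl⟩ := (β ^ i).surjective v'
        show μ _ = 1
        rw [← hr v']
        refine Eq.trans (congrArg μ (Subtype.ext ?_)) (hμi ⟨_, hcomZ r v'⟩)
        show (β ^ i) r * (β ^ i) v' * ((β ^ i) r)⁻¹ * ((β ^ i) v')⁻¹ =
          (β ^ i) (r * v' * r⁻¹ * v'⁻¹)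
        simp only [map_mul, map_inv]
      set τ := OddPower.subAut (β ^ i) R hRinv
      have hRe : ∀ r : R, ρR (τ r) ((X ^ i) v) = ν r • (X ^ i) v := fun r => by
        show ρ ((β ^ i) (r : Q)) _ = _
        rw [heig, show ρ (r : Q) v = ν r • v from OddPower.mem_eigSub.mp hv r, map_smul]
      rw [twist_apply_eigen ρZ μ (fun z => by
        obtain ⟨z', rfl⟩ := σ.surjective z
        rw [hZe, hμi]), map_smul]
      obtain ⟨r₀, hr₀⟩ : ∃ r, ν (τ r) ≠ ν r := by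
        by_contra hc
        push Not at hc
        exact hnofix i hi hil fun r => ⟨hRinv r r.2, hc r⟩
      rw [twist_apply_other ρR ν τ hRe hr₀, smul_zero]
    · push Not at hμi
      obtain ⟨z, hz⟩ := hμi
      rw [twist_apply_other ρZ μ σ hZe hz, map_zero]
  -- lifting from the stabiliser
  have hVνQ : ∀ a : Q, ∀ v ∈ Vν, ρ a v ∈ Vν := by
    intro a v hv
    refine OddPower.mem_eigSub.mpr fun r => ?_
    show ρ (r : Q) (ρ a v) = ν r • ρ a v
    rw [hswap _ _ v (OddPower.mem_eigSub.mpr (hVνμ v hv)), r.2 a, one_smul,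
      show ρ (r : Q) v = ν r • v from OddPower.mem_eigSub.mp hv r, map_smul]
  have hRl : ∀ r ∈ R, (β ^ p ^ l) r ∈ R := fun r hr => (hl ⟨r, hr⟩).1
  have hVνX : ∀ v ∈ Vν, (X ^ p ^ l) v ∈ Vν := by
    intro v hv
    refine OddPower.mem_eigSub.mpr fun r => ?_
    obtain ⟨r', rfl⟩ := (OddPower.subAut (β ^ p ^ l) R hRl).surjective r
    obtain ⟨h1, e1⟩ := hl r'
    rw [show ν (OddPower.subAut (β ^ p ^ l) R hRl r') = ν r' from e1]
    show ρ ((β ^ p ^ l) (r' : Q)) ((X ^ p ^ l) v) = _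
    rw [← Module.End.mul_apply, ← OddPower.pow_semiconj hXρ, Module.End.mul_apply,
      show ρ (r' : Q) v = ν r' • v from OddPower.mem_eigSub.mp hv r', map_smul]
  have hlift : ∀ (j : ℕ), ∀ v ∈ Vν, ((X ^ p ^ l - 1) ^ j) v ≠ 0 →
      (X - 1) ^ (p ^ l * j + p ^ l - 1) ≠ 0 := by
    intro j v hv hj h0
    have hall : ∀ (i : ℕ), ∀ w ∈ Vν, ((X ^ p ^ l - 1) ^ i) w ∈ Vν := by
      intro i
      induction i with
      | zero => exact fun w hw => hw
      | succ i ih =>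
        intro w hw
        rw [pow_succ, Module.End.mul_apply, LinearMap.sub_apply, Module.End.one_apply]
        exact ih _ (Submodule.sub_mem _ (hVνX w hw) hw)
    have hu := hall j v hv
    have he : ((X - 1) ^ (p ^ l * j + p ^ l - 1)) v =
        ∑ i ∈ Finset.range (p ^ l), (X ^ i) (((X ^ p ^ l - 1) ^ j) v) := by
      rw [show p ^ l * j + p ^ l - 1 = (p ^ l - 1) + p ^ l * j by
        have := Nat.one_le_pow l p hp.out.pos; omega, pow_add, pow_mul, sub_one_pow_char_pow,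
        Module.End.mul_apply, ← geom_sum_end, LinearMap.sum_apply]
    have h1 : π (((X - 1) ^ (p ^ l * j + p ^ l - 1)) v) =
        ((Nat.card Z : k) * (Nat.card R : k)) • ((X ^ p ^ l - 1) ^ j) v := by
      rw [he, map_sum,
        Finset.sum_eq_single_of_mem 0 (Finset.mem_range.mpr (pow_pos hp.out.pos l))
          (fun i hi hi0 => hπ0 _ hu i (Nat.pos_of_ne_zero hi0) (Finset.mem_range.mp hi)),
        pow_zero, Module.End.one_apply, hπid _ hu]
    rw [h0, LinearMap.zero_apply, map_zero] at h1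
    exact hj ((smul_eq_zero.mp h1.symm).resolve_left (mul_ne_zero hcardZ hcardR))
  rcases Nat.eq_or_lt_of_le hln with hl1 | hl1
  · refine Or.inl ?_
    have := hlift 0 v₁ hv₁ν (by simpa using hv₁)
    rwa [mul_zero, zero_add, hl1] at this
  obtain ⟨e, rfl⟩ : ∃ e, n = l + e := Nat.exists_eq_add_of_le (Nat.lt_succ_iff.mp hl1)
  set y := β ^ p ^ (l + e) with hydef
  have hye : y = (β ^ p ^ l) ^ p ^ e := by rw [hydef, ← pow_mul, ← pow_add]
  have hRt : R ≠ ⊤ := by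
    obtain ⟨u, v, huv⟩ := hne
    intro htop
    exact huv ((htop ▸ Subgroup.mem_top u : u ∈ R) v)
  have S : Extraspecial.Setup R 1 ν 1 :=
    { comm := fun u v => hZR (hcomZ u v)
      nondeg := fun a ha => by
        obtain ⟨v, hv⟩ : ∃ v, χ a v ≠ 1 := not_forall.mp ha
        refine ⟨v, fun h => hv ?_⟩
        have h2 : χ v a = 1 := (hνμ ⟨_, hcomZ v a⟩).symm.trans h
        have := hχsymm a v
        rwa [h2, mul_one] at this
      ne_top := hRt
      inv := fun r hr => hr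
      fix := fun r => rfl
      pow := one_pow 1
      semireg := fun i h1 h2 => absurd h2 (by omega)
      cast_card := natCast_card_ne_zero hqp hQ }
  have hγ : (β ^ p ^ l) ^ p ^ (e + 1) = 1 := by
    rw [← pow_mul, ← pow_add, show l + (e + 1) = l + e + 1 by omega, hβ]
  have hsemi : ∀ i, 0 < i → i < p ^ (e + 1) → ∀ u : Q,
      u⁻¹ * ((β ^ p ^ l) ^ i) u ∈ R → u ∈ R := by
    intro i hi hil u hu
    obtain ⟨a, ha⟩ := Arith.exists_mul_mod_eq hp.out hi hil
    rw [Nat.add_sub_cancel] at ha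
    refine fun v => hsemi0 u ?_ v
    have h1 := OddPower.pow_inv_mul_mem _ (OddPower.pow_invariant _ hRl i) hu a
    rw [← pow_mul, pow_eq_pow_mod _ hγ, ha, ← hye] at h1
    exact h1
  obtain ⟨v, hv, hor⟩ := exists_dichotomy hQ S (β ^ p ^ l) hRl (fun r => (hl r).2) hγ hsemi ρ
    (X ^ p ^ l) (by rw [← pow_mul, ← pow_add, show l + (e + 1) = l + e + 1 by omega, hX])
    (fun u => OddPower.pow_semiconj hXρ _ u) Vν
    (fun h => hv₁ (Subtype.ext (by rw [h] at hv₁ν; simpa using hv₁ν)))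
    hVνQ hVνX (fun v hv r => OddPower.mem_eigSub.mp hv r)
  rcases hor with h | ⟨d, hd1, hd2, -, hcard⟩
  · refine Or.inl ?_
    have := hlift _ v hv h
    rwa [Nat.mul_sub, mul_one, ← pow_add, show l + (e + 1) = l + e + 1 by omega,
      Nat.sub_add_cancel (Nat.pow_le_pow_right hp.out.pos (by omega))] at this
  · refine Or.inr ⟨l, e, d, rfl, hd1, hd2, fun z h => ?_, fun R' hR' => ?_⟩
    · obtain ⟨h1, h2⟩ := hl ⟨z, hZR z.2⟩
      rw [← hνμ, ← hνμ]
      exact h2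
    · have hRR : R' = R := Subgroup.ext fun u => hR' u
      rw [hRR, Subgroup.index_eq_card, hcard]

end Cfsg.Agent.Lib.PLengthTwoE
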