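/-
A lower bound for the moved subspace of the element of order `p` of a cyclic operator group
permuting, freely, the characters of a commutative `p`-group over a field with `q` elements.
-/
import Mathlib
import Cfsg.Agent.Lib.HallHigmanB.Core

set_option autoImplicit false
set_option linter.unusedSectionVars false

namespace Cfsg.Agent.Lib.PLengthTwoE

open Module Cfsg.Agent.Lib.FpfHeight Cfsg.Agent.Lib.HallHigmanB

/-- Two free orbits of weights give twice as many moved dimensions. -/
theorem two_mul_le_finrank_range {p q : ℕ} [hp : Fact p.Prime] [hq : Fact q.Prime] (hpq : p ≠ q)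
    (hq1 : (q : ZMod p) ≠ 1) {U : Type*} [AddCommGroup U] [Module (ZMod q) U]
    [FiniteDimensional (ZMod q) U] {A : Type*} [Group A] [Finite A] (hA : IsPGroup p A)
    (hAc : ∀ a b : A, a * b = b * a) (β : MulAut A) {e : ℕ} (hβ : β ^ p ^ (e + 1) = 1)
    (ρ : A →* Module.End (ZMod q) U) (G : Module.End (ZMod q) U) (hG1 : G ^ p ^ (e + 1) = 1)
    (hG : ∀ a, G * ρ a = ρ (β a) * G) (hc : ∃ a, ρ ((β ^ p ^ e) a) ≠ ρ a) :
    2 * (p ^ (e + 1) - p ^ e) ≤
      finrank (ZMod q) (LinearMap.range (G ^ p ^ e - 1 : Module.End (ZMod q) U)) := by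
  classical
  let b := Module.finBasis (ZMod q) U
  set r := Module.finrank (ZMod q) U
  let k := AlgebraicClosure (ZMod q)
  haveI : CharP k q := charP_of_injective_algebraMap (algebraMap (ZMod q) k).injective q
  haveI : ExpChar k q := ExpChar.prime hq.out
  let φ : Module.End (ZMod q) U →+* Module.End k (Fin r → k) :=
    (Matrix.toLinAlgEquiv' (R := k)).toRingEquiv.toRingHom.comp
      ((algebraMap (ZMod q) k).mapMatrix.comp (LinearMap.toMatrixAlgEquiv b).toRingEquiv.toRingHom)
  have hφ : Function.Injective φ := fun P Q h =>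
    (LinearMap.toMatrixAlgEquiv b).injective (Matrix.map_injective (algebraMap (ZMod q) k).injective
      ((Matrix.toLinAlgEquiv' (R := k)).injective h))
  have hφapp : ∀ (T : Module.End (ZMod q) U) (v : Fin r → k) (i : Fin r),
      φ T v i = ∑ j, algebraMap (ZMod q) k (LinearMap.toMatrixAlgEquiv b T i j) * v j :=
    fun T v i => rfl
  -- scalar extension of vectors
  let ι : U → (Fin r → k) := fun u j => algebraMap (ZMod q) k (b.repr u j)
  have hιadd : ∀ u v, ι (u + v) = ι u + ι v := fun u v => funext fun j => by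
    simp [ι, map_add]
  have hιsmul : ∀ (c : ZMod q) u, ι (c • u) = algebraMap (ZMod q) k c • ι u := fun c u =>
    funext fun j => by simp [ι, map_mul]
  have hιφ : ∀ (T : Module.End (ZMod q) U) j, φ T (Pi.single j 1) = ι (T (b j)) := fun T j =>
    funext fun i => by
      rw [hφapp, Finset.sum_eq_single j (fun l _ hl => by rw [Pi.single_eq_of_ne hl, mul_zero])
        (fun h => absurd (Finset.mem_univ j) h), Pi.single_eq_same, mul_one,
        LinearMap.toMatrixAlgEquiv_apply]
  -- Frobenius
  let σ : (Fin r → k) → (Fin r → k) := fun v j => frobenius k q (v j)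
  have hσsmul : ∀ (c : k) v, σ (c • v) = frobenius k q c • σ v := fun c v => funext fun j =>
    map_mul (frobenius k q) c (v j)
  have hσsub : ∀ v w, σ (v - w) = σ v - σ w := fun v w => funext fun j =>
    map_sub (frobenius k q) (v j) (w j)
  have hσ0 : ∀ v, σ v = 0 → v = 0 := fun v h => funext fun j =>
    (frobenius_inj k q) ((congrFun h j).trans (map_zero _).symm)
  have hσφ : ∀ (T : Module.End (ZMod q) U) v, σ (φ T v) = φ T (σ v) := fun T v => funext fun i => by
    show frobenius k q (φ T v i) = _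
    rw [hφapp, hφapp, map_sum]
    refine Finset.sum_congr rfl fun j _ => ?_
    rw [map_mul, frobenius_def, ← map_pow, ZMod.pow_card]
  -- a weight moved by the element of order `p`
  obtain ⟨a₀, ha₀⟩ := hc
  set c₀ := (β ^ p ^ e) a₀ * a₀⁻¹ with hc₀
  let ρk : A →* Module.End k (Fin r → k) := φ.toMonoidHom.comp ρ
  have hcard : (Nat.card A : k) ≠ 0 := natCast_card_ne_zero (p := q) hpq hA
  have hC1 : ρk c₀ ≠ 1 := by
    intro h
    refine ha₀ ?_
    have h1 : ρ c₀ = 1 := hφ (h.trans (map_one φ).symm)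
    rw [show (β ^ p ^ e) a₀ = c₀ * a₀ by rw [hc₀, inv_mul_cancel_right], map_mul, h1, one_mul]
  have hcommk : ∀ a b, Commute (ρk a) (ρk b) := fun a b => by
    rw [Commute, SemiconjBy, ← map_mul, ← map_mul, hAc]
  obtain ⟨w, χ, hwW, hw0, hw⟩ := EigenChar.exists_common_eigenvector ρk hcommk
    (LinearMap.range (ρk c₀ - 1))
    (fun h => hC1 (sub_eq_zero.mp (LinearMap.range_eq_bot.mp h)))
    (fun a v hv => by
      obtain ⟨u, rfl⟩ := hv
      refine ⟨ρk a u, ?_⟩
      rw [← Module.End.mul_apply, ← Module.End.mul_apply]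
      exact LinearMap.congr_fun ((hcommk a c₀).sub_right (Commute.one_right _)).eq.symm u)
  have hχc : χ c₀ ≠ 1 := by
    intro h
    obtain ⟨u, hu⟩ := hwW
    refine hw0 ?_
    have hu' : ρk c₀ u - u = w := hu
    rw [← hu', sub_eq_zero]
    refine EigenChar.eq_of_apply_sub_fixed (ρk c₀) (o := Nat.card A) ?_ hcard u ?_
    · rw [← map_pow, pow_card_eq_one', map_one]
    · rw [hu', hw, h, one_smul]
  -- powers
  set P := p ^ (e + 1) with hPdef
  have hP : 0 < P := pow_pos hp.out.pos _
  have hQP : p ^ e < P := Nat.pow_lt_pow_right hp.out.one_lt e.lt_succ_self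
  set Gk := φ G with hGk
  have hGk1 : Gk ^ P = 1 := by rw [hGk, ← map_pow, hG1, map_one]
  have hGρ : ∀ a, Gk * ρk a = ρk (β a) * Gk := fun a => by
    show φ G * φ (ρ a) = φ (ρ (β a)) * φ G
    rw [← map_mul, hG, map_mul]
  have hβmod : ∀ i, β ^ i = β ^ (i % P) := fun i => pow_eq_pow_mod i hβ
  have hfix : ∀ t, 0 < t → t < P → ¬ ∀ a, χ ((β ^ t) a) = χ a := by
    intro t ht htP h
    obtain ⟨s, hs⟩ := Arith.exists_mul_mod_eq hp.out ht htP
    rw [Nat.add_sub_cancel] at hs
    have h1 : ∀ (i : ℕ) a, χ (((β ^ t) ^ i) a) = χ a := by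
      intro i
      induction i with
      | zero => intro a; rfl
      | succ i ih => intro a; rw [pow_succ', MulAut.mul_apply, h, ih]
    refine hχc ?_
    have h2 := h1 s a₀
    rw [← pow_mul, hβmod, hs] at h2
    rw [hc₀, map_mul, h2, ← map_mul, mul_inv_cancel, map_one]
  let vec : Bool × Fin P → (Fin r → k) := fun x =>
    bif x.1 then σ ((Gk ^ (x.2 : ℕ)) w) else (Gk ^ (x.2 : ℕ)) w
  let chr : Bool × Fin P → (A →* k) := fun x =>
    bif x.1 then (frobenius k q).toMonoidHom.comp (χ.comp (β ^ (x.2 : ℕ)).symm.toMonoidHom)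
    else χ.comp (β ^ (x.2 : ℕ)).symm.toMonoidHom
  have heig : ∀ x, ∀ a, ρk a (vec x) = chr x a • vec x := by
    rintro ⟨_ | _, i⟩ a
    · exact EigenChar.pow_apply_eigen ρk Gk β hGρ hw i a
    · show φ (ρ a) (σ _) = _
      rw [← hσφ]
      show σ (ρk a ((Gk ^ (i : ℕ)) w)) = _
      rw [EigenChar.pow_apply_eigen ρk Gk β hGρ hw i a, hσsmul]
      rfl
  have hne : ∀ x, vec x ≠ 0 := by
    have h1 : ∀ i : ℕ, i ≤ P → (Gk ^ i) w ≠ 0 := fun i hi h => hw0 (by
      rw [show w = (Gk ^ (P - i + i)) w by rw [Nat.sub_add_cancel hi, hGk1]; rfl, pow_add,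
        Module.End.mul_apply, h, map_zero])
    rintro ⟨_ | _, i⟩
    · exact h1 i i.2.le
    · exact fun h => h1 i i.2.le (hσ0 _ h)
  have hshift : ∀ i j : Fin P, (∀ a, χ ((β ^ (i : ℕ)).symm a) = χ ((β ^ (j : ℕ)).symm a)) → i = j := by
    have main : ∀ i j : Fin P, (i : ℕ) < j →
        (∀ a, χ ((β ^ (i : ℕ)).symm a) = χ ((β ^ (j : ℕ)).symm a)) → False := by
      intro i j hij h
      refine hfix ((j : ℕ) - i) (by omega) (by omega) fun a => ?_
      have h1 := h ((β ^ (j : ℕ)) a)
      rw [MulEquiv.symm_apply_apply] at h1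
      rw [← h1]
      refine congrArg χ ?_
      rw [MulEquiv.eq_symm_apply, ← MulAut.mul_apply, ← pow_add,
        Nat.add_sub_cancel' hij.le]
    intro i j h
    rcases lt_trichotomy (i : ℕ) j with h' | h' | h'
    · exact (main i j h' h).elim
    · exact Fin.ext h'
    · exact (main j i h' fun a => (h a).symm).elim
  have hcross : ∀ i j : Fin P, ¬ ∀ a, frobenius k q (χ ((β ^ (i : ℕ)).symm a)) =
      χ ((β ^ (j : ℕ)).symm a) := by
    intro i j h
    set t := (P - (j : ℕ)) + i
    have h1 : ∀ a, χ a ^ q = χ ((β ^ t) a) := fun a => by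
      have h2 := h ((β ^ (i : ℕ)) a)
      rw [MulEquiv.symm_apply_apply, frobenius_def] at h2
      rw [h2]
      refine congrArg χ ?_
      rw [MulEquiv.symm_apply_eq, ← MulAut.mul_apply, ← pow_add,
        show (j : ℕ) + t = P + i by omega, pow_add, hβ, one_mul]
    have h2 : ∀ s a, χ a ^ q ^ s = χ (((β ^ t) ^ s) a) := by
      intro s
      induction s with
      | zero => intro a; simp
      | succ s ih => intro a; rw [pow_succ, pow_mul, ih, h1, pow_succ', MulAut.mul_apply]
    have h3 := h2 P c₀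
    rw [← pow_mul, mul_comm, pow_mul, hβ, one_pow, MulAut.one_apply] at h3
    obtain ⟨s, hs⟩ := hA c₀
    have hord : orderOf (χ c₀) ∣ p ^ s :=
      orderOf_dvd_of_pow_eq_one (by rw [← map_pow, hs, map_one])
    have hpd : p ∣ orderOf (χ c₀) := by
      obtain ⟨m, -, hm⟩ := (Nat.dvd_prime_pow hp.out).mp hord
      rcases Nat.eq_zero_or_pos m with h0 | h0
      · rw [h0, pow_zero, orderOf_eq_one_iff] at hm
        exact absurd hm hχc
      · rw [hm]; exact dvd_pow_self p h0.ne'
    have hχ0 : χ c₀ ≠ 0 := fun h0 => by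
      have h5 := map_mul χ c₀ c₀⁻¹
      rw [mul_inv_cancel, map_one, h0, zero_mul] at h5
      exact one_ne_zero h5
    have hpos : 1 ≤ q ^ P := Nat.one_le_pow _ _ hq.out.pos
    have h4 : χ c₀ ^ (q ^ P - 1) = 1 := by
      have h6 : χ c₀ ^ (q ^ P - 1) * χ c₀ = 1 * χ c₀ := by
        rw [← pow_succ, Nat.sub_add_cancel hpos, h3, one_mul]
      exact mul_right_cancel₀ hχ0 h6
    refine hq1 ?_
    have h7 : ((q ^ P - 1 : ℕ) : ZMod p) = 0 :=
      (ZMod.natCast_eq_zero_iff _ _).mpr (hpd.trans (orderOf_dvd_of_pow_eq_one h4))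
    rw [Nat.cast_sub hpos, Nat.cast_pow, Nat.cast_one, sub_eq_zero, hPdef,
      ZMod.pow_card_pow] at h7
    exact h7
  have hdist : ∀ x y, chr x = chr y → x = y := by
    rintro ⟨_ | _, i⟩ ⟨_ | _, j⟩ h
    · rw [hshift i j fun a => DFunLike.congr_fun h a]
    · exact (hcross j i fun a => (DFunLike.congr_fun h a).symm).elim
    · exact (hcross i j fun a => DFunLike.congr_fun h a).elim
    · rw [hshift i j fun a => frobenius_inj k q (DFunLike.congr_fun h a)]
  have hvec : ∀ g : Bool × Fin P → k, ∑ x, g x • vec x = 0 → ∀ x, g x = 0 := by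
    intro g hg x
    have h := EigenChar.eq_zero_of_sum_eq_zero ρk hcard Finset.univ chr (fun x => g x • vec x)
      (fun x _ a => by rw [map_smul, heig, smul_comm]) (fun x _ y _ h => hdist x y h) hg x
      (Finset.mem_univ x)
    exact (smul_eq_zero.mp h).resolve_right (hne x)
  -- the moved vectors
  set N := P - p ^ e with hN
  set T := (G ^ p ^ e - 1 : Module.End (ZMod q) U) with hTdef
  have hT : φ T = Gk ^ p ^ e - 1 := by rw [hTdef, map_sub, map_pow, map_one]
  let up : Bool × Fin N → Bool × Fin P := fun y => (y.1, ⟨(y.2 : ℕ) + p ^ e, by omega⟩)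
  let lo : Bool × Fin N → Bool × Fin P := fun y => (y.1, ⟨(y.2 : ℕ), by omega⟩)
  have hmove : ∀ y, φ T (vec (lo y)) = vec (up y) - vec (lo y) := by
    have h1 : ∀ i : ℕ, φ T ((Gk ^ i) w) = (Gk ^ (i + p ^ e)) w - (Gk ^ i) w := fun i => by
      rw [hT, LinearMap.sub_apply, Module.End.one_apply, add_comm, pow_add, Module.End.mul_apply]
    rintro ⟨_ | _, i⟩
    · exact h1 i
    · show φ T (σ _) = σ _ - σ _
      rw [← hσφ, h1, hσsub]
  have hind : LinearIndependent k fun y => vec (up y) - vec (lo y) := by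
    rw [Fintype.linearIndependent_iff]
    intro g hg
    let f : Bool × Fin P → k := fun x =>
      (∑ y, if up y = x then g y else 0) - ∑ y, if lo y = x then g y else 0
    have hf : ∀ x, f x = 0 := hvec f (by
      rw [← hg]
      simp only [f, sub_smul, smul_sub, Finset.sum_sub_distrib, Finset.sum_smul, ite_smul, zero_smul]
      congr 1 <;> rw [Finset.sum_comm] <;>
        exact Finset.sum_congr rfl fun y _ => by rw [Finset.sum_ite_eq, if_pos (Finset.mem_univ _)])
    suffices h : ∀ (m : ℕ) (y : Bool × Fin N), (y.2 : ℕ) = m → g y = 0 from fun y => h _ y rfl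
    intro m
    induction m using Nat.strong_induction_on with
    | _ m ih =>
      intro y hy
      have h := hf (lo y)
      have e1 : (∑ z, if lo z = lo y then g z else 0) = g y := by
        rw [Finset.sum_eq_single y (fun z _ hz => if_neg fun h' => hz ?_)
          (fun h' => absurd (Finset.mem_univ y) h'), if_pos rfl]
        have h1 := congrArg Prod.fst h'
        have h2 := congrArg (fun x : Bool × Fin P => (x.2 : ℕ)) h'
        exact Prod.ext h1 (Fin.ext h2)
      have e2 : (∑ z, if up z = lo y then g z else 0) = 0 := by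
        refine Finset.sum_eq_zero fun z _ => ?_
        split_ifs with h'
        · have h2 : (z.2 : ℕ) + p ^ e = (y.2 : ℕ) :=
            congrArg (fun x : Bool × Fin P => (x.2 : ℕ)) h'
          exact ih _ (by have := pow_pos hp.out.pos e; omega) z rfl
        · rfl
      simp only [f, e1, e2, zero_sub, neg_eq_zero] at h
      exact h
  -- comparison of ranks
  let wb := Module.finBasis (ZMod q) (LinearMap.range T)
  set S := Submodule.span k (Set.range fun i => ι (wb i : U)) with hS
  have hrange : ∀ v, φ T v ∈ S := by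
    have h1 : ∀ u ∈ LinearMap.range T, ι u ∈ S := by
      intro u hu
      have h2 := congrArg Subtype.val (wb.sum_repr ⟨u, hu⟩)
      simp only [Submodule.coe_sum, Submodule.coe_smul] at h2
      let ιh : U →+ (Fin r → k) := AddMonoidHom.mk' ι hιadd
      have h3 : ιh u = ∑ i, ιh (wb.repr ⟨u, hu⟩ i • (wb i : U)) := by rw [← map_sum, h2]
      show ιh u ∈ S
      rw [h3]
      refine Submodule.sum_mem _ fun i _ => ?_
      show ι _ ∈ S
      rw [hιsmul]
      exact Submodule.smul_mem _ _ (Submodule.subset_span ⟨i, rfl⟩)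
    intro v
    rw [pi_eq_sum_univ v, map_sum]
    refine Submodule.sum_mem _ fun j _ => ?_
    rw [map_smul]
    refine Submodule.smul_mem _ _ ?_
    rw [show (fun l => if j = l then (1 : k) else 0) = Pi.single j 1 from funext fun l => by
      rw [Pi.single_apply]; exact if_congr eq_comm rfl rfl, hιφ]
    exact h1 _ ⟨_, rfl⟩
  let u' : Bool × Fin N → S := fun y => ⟨vec (up y) - vec (lo y), hmove y ▸ hrange _⟩
  have hind' : LinearIndependent k u' := LinearIndependent.of_comp S.subtype hind
  have h1 := hind'.fintype_card_le_finrank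
  rw [Fintype.card_prod, Fintype.card_bool, Fintype.card_fin] at h1
  refine h1.trans ((finrank_range_le_card _).trans ?_)
  rw [Fintype.card_fin]

end Cfsg.Agent.Lib.PLengthTwoE
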