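/-
When every `p`-element has a deficient block, an element `z ^ p ^ m` cannot move an abelian
subgroup generated by such powers.
-/
import Mathlib
import Cfsg.Agent.Lib.PLengthTwoE.Radical
import Cfsg.Agent.Lib.PLengthTwoE.Rank
import Cfsg.Agent.Lib.Coprime.Commutator
import Cfsg.Agent.Lib.Cores.InvariantSylow
import Cfsg.Agent.Lib.PGroups.Frattini

set_option autoImplicit false
set_option linter.unusedSectionVars false
set_option linter.style.haveILetI false

namespace Cfsg.Agent.Lib.PLengthTwoE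

open Module Cfsg.Agent.Lib.FpfHeight Cfsg.Agent.Lib.HallHigmanB
open scoped commutatorElement

variable {k : Type*} [Field k] [IsAlgClosed k] {M : Type*} [AddCommGroup M] [Module k M]
  [FiniteDimensional k M] {H : Type*} [Group H] [Finite H] {p : ℕ} [hp : Fact p.Prime] [CharP k p]

/-- An element with deficient block has its power of order `p` centralizing the abelian subgroups
of order prime to `p` that it normalizes. -/
theorem commute_abelian (f : H →* Module.End k M) (hf : Function.Injective f) {m : ℕ} {z : H}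
    (hz : z ^ p ^ (m + 1) = 1) (hzero : (f z - 1) ^ (p ^ (m + 1) - 1) = 0) {q : ℕ} [Fact q.Prime]
    (hqp : q ≠ p) {D : Subgroup H} (hD : IsPGroup q D) (hDc : ∀ a ∈ D, ∀ b ∈ D, a * b = b * a)
    (hzD : z ∈ Subgroup.normalizer (D : Set H)) :
    D ≤ Subgroup.centralizer ({z ^ p ^ m} : Set H) := by
  by_contra hDy
  obtain ⟨Q, ⟨hQD, hQx, hQy⟩, hQmin⟩ := exists_minimal_of_wellFoundedLT
    (fun Q : Subgroup H => Q ≤ D ∧ z ∈ Subgroup.normalizer (Q : Set H) ∧
      ¬ Q ≤ Subgroup.centralizer ({z ^ p ^ m} : Set H)) ⟨D, le_rfl, hzD, hDy⟩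
  set ψ := Subgroup.normalizerMonoidHom Q
  set z' : Subgroup.normalizer (Q : Set H) := ⟨z, hQx⟩ with hz'
  set β := ψ z' with hβdef
  have hβpow : ∀ (i : ℕ) (u : Q), (((β ^ i) u : Q) : H) = z ^ i * u * (z ^ i)⁻¹ := fun i u => by
    rw [hβdef, ← map_pow]
    rfl
  have hfix : ∀ u : Q, (β ^ p ^ m) u = u ↔ (u : H) ∈ Subgroup.centralizer ({z ^ p ^ m} : Set H) := by
    intro u
    rw [Subgroup.mem_centralizer_singleton_iff, ← Subtype.coe_inj, hβpow, mul_inv_eq_iff_eq_mul]
    exact eq_comm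
  obtain h | ⟨⟨a, b, hab⟩, -⟩ := core (M := M) hqp (hD.to_le hQD) β (n := m)
      (MulEquiv.ext fun u => Subtype.ext (by rw [hβpow, hz]; simp))
      (fun h => hQy fun u hu => (hfix ⟨u, hu⟩).mp (by rw [h]; rfl))
      (fun L hL hLinv u hu => by
        rw [hfix]
        by_contra hu'
        have hLQ : L.map Q.subtype ≤ Q := Subgroup.map_subtype_le L
        have hle := hQmin (y := L.map Q.subtype) ⟨hLQ.trans hQD, ?_, fun h =>
          hu' (h (Subgroup.mem_map_of_mem _ hu))⟩ hLQ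
        · refine hL (eq_top_iff.mpr fun w _ => ?_)
          obtain ⟨w', hw', hww⟩ := hle w.2
          rwa [← Subtype.ext hww]
        · haveI : Finite ((L.map Q.subtype : Subgroup H) : Set H) := Set.toFinite _
          refine Subgroup.mem_normalizer_fintype ?_
          rintro _ ⟨w, hw, rfl⟩
          refine ⟨β w, hLinv w hw, ?_⟩
          have := hβpow 1 w
          simpa using this)
      (f.comp Q.subtype) (hf.comp Q.subtype_injective) (f z)
      (by rw [← map_pow, hz, map_one])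
      (fun u => by
        show f z * f (u : H) = f ((β u : Q) : H) * f z
        rw [← map_mul, ← map_mul]
        congr 1
        have := hβpow 1 u
        rw [pow_one, pow_one] at this
        rw [this, inv_mul_cancel_right])
  · exact h hzero
  · exact hab (Subtype.ext (hDc _ (hQD a.2) _ (hQD b.2)))

/-- The main contradiction. -/
theorem false_of_moved (hp2 : p ≠ 2) (f : H →* Module.End k M) (hf : Function.Injective f) {m : ℕ}
    (hexp : ∀ z : H, (∃ i : ℕ, z ^ p ^ i = 1) → z ^ p ^ (m + 1) = 1)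
    (hzero : ∀ z : H, (∃ i : ℕ, z ^ p ^ i = 1) → (f z - 1) ^ (p ^ (m + 1) - 1) = 0)
    (K : Subgroup H) [K.Normal] (hK : (Nat.card K).Coprime p)
    (hKc : Subgroup.centralizer (K : Set H) ≤ K)
    (T : Subgroup H) (hT : IsPGroup p T) (A : Subgroup H) (hAT : A ≤ T)
    (hAc : ∀ a ∈ A, ∀ b ∈ A, a * b = b * a) (hTA : T ≤ Subgroup.normalizer (A : Set H))
    (hAY : A ≤ Subgroup.closure {y : H | ∃ z ∈ T, y = z ^ p ^ m})
    {z₀ a₀ : H} (hz₀ : z₀ ∈ T) (ha₀ : a₀ ∈ A) (hmove : z₀ ^ p ^ m * a₀ ≠ a₀ * z₀ ^ p ^ m) :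
    False := by
  classical
  have hTel : ∀ z ∈ T, ∃ i : ℕ, z ^ p ^ i = 1 := fun z hz => by
    obtain ⟨i, hi⟩ := hT ⟨z, hz⟩
    exact ⟨i, congrArg Subtype.val hi⟩
  -- the powers centralise invariant abelian subgroups
  have hYc : ∀ {q : ℕ}, q.Prime → q ≠ p → ∀ D : Subgroup H, IsPGroup q D →
      (∀ a ∈ D, ∀ b ∈ D, a * b = b * a) → T ≤ Subgroup.normalizer (D : Set H) →
      ∀ a ∈ A, ∀ d ∈ D, a * d = d * a := by
    intro q hq hqp D hD hDc hTD a ha d hd
    haveI := Fact.mk hq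
    have hle : Subgroup.closure {y : H | ∃ z ∈ T, y = z ^ p ^ m} ≤
        Subgroup.centralizer (D : Set H) := by
      rw [Subgroup.closure_le]
      rintro _ ⟨z, hz, rfl⟩
      rw [SetLike.mem_coe, Subgroup.mem_centralizer_iff]
      intro d' hd'
      exact Subgroup.mem_centralizer_singleton_iff.mp
        (commute_abelian f hf (hexp z (hTel z hz)) (hzero z (hTel z hz)) hqp hD hDc (hTD hz) hd')
    exact (Subgroup.mem_centralizer_iff.mp (hle (hAY ha)) d hd).symm
  -- the commutators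
  set S₀ := {c : H | ∃ z ∈ T, ∃ a ∈ A, c = z ^ p ^ m * a * (z ^ p ^ m)⁻¹ * a⁻¹} with hS₀
  set C := Subgroup.closure S₀ with hC
  have hS₀A : S₀ ⊆ A := by
    rintro _ ⟨z, hz, a, ha, rfl⟩
    exact mul_mem ((Subgroup.mem_normalizer_iff.mp (hTA (T.pow_mem hz _)) a).mp ha) (inv_mem ha)
  have hCA : C ≤ A := (Subgroup.closure_le _).mpr hS₀A
  have hCT : C ≤ T := hCA.trans hAT
  have hTC : T ≤ Subgroup.normalizer (C : Set H) := by
    rw [Subgroup.le_normalizer_iff]
    intro t ht c hc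
    have hle : C ≤ Subgroup.comap (MulAut.conj t).toMonoidHom C := by
      rw [hC, Subgroup.closure_le]
      rintro _ ⟨z, hz, a, ha, rfl⟩
      refine Subgroup.subset_closure ⟨t * z * t⁻¹, mul_mem (mul_mem ht hz) (inv_mem ht),
        t * a * t⁻¹, (Subgroup.mem_normalizer_iff.mp (hTA ht) a).mp ha, ?_⟩
      rw [conj_pow]
      show t * _ * t⁻¹ = _
      group
    exact hle hc
  -- a moved invariant Sylow subgroup
  have hcopT : (Nat.card T).Coprime (Nat.card K) := by
    obtain ⟨i, hi⟩ := IsPGroup.iff_card.mp hT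
    rw [hi]
    exact (hK.symm).pow_left _
  haveI := hT.isNilpotent
  have hTs : Group.IsSolvable T := inferInstance
  have hTK : T ≤ Subgroup.normalizer (K : Set H) := by
    rw [Subgroup.normalizer_eq_top_iff.mpr inferInstance]
    exact le_top
  obtain ⟨q, hq, hqd, P, hPK, hPq, hPT, hPC⟩ : ∃ q, q.Prime ∧ q ∣ Nat.card K ∧ ∃ P : Subgroup H,
      P ≤ K ∧ IsPGroup q P ∧ T ≤ Subgroup.normalizer (P : Set H) ∧
      ¬ P ≤ Subgroup.centralizer (C : Set H) := by
    by_contra hc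
    push Not at hc
    have hKC : K ≤ Subgroup.centralizer (C : Set H) := by
      refine inf_eq_left.mp (Subgroup.eq_of_le_of_card_ge (H := K ⊓ _) inf_le_left ?_)
      set C' := (Subgroup.centralizer (C : Set H)).subgroupOf K
      have h1 : C'.index = 1 := by
        refine Nat.eq_one_iff_not_exists_prime_dvd.mpr fun q hq hd => ?_
        haveI := Fact.mk hq
        obtain ⟨P, hPK, hPq, hPi, hPA⟩ :=
          Cores.InvariantSylow.exists_invariant hTK hcopT (Or.inl hTs) q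
        have hle := hc q hq (hd.trans (Subgroup.index_dvd_card C')) P hPK hPq hPA
        exact hPi (hd.trans (Subgroup.relIndex_dvd_of_le_left K hle))
      rw [Subgroup.index_eq_one, Subgroup.subgroupOf_eq_top] at h1
      rw [inf_eq_left.mpr h1]
    have hc0 : z₀ ^ p ^ m * a₀ * (z₀ ^ p ^ m)⁻¹ * a₀⁻¹ ∈ C :=
      Subgroup.subset_closure ⟨z₀, hz₀, a₀, ha₀, rfl⟩
    have hc1 := hKc ((Subgroup.le_centralizer_iff.mp hKC) hc0)
    have hc2 : z₀ ^ p ^ m * a₀ * (z₀ ^ p ^ m)⁻¹ * a₀⁻¹ = 1 := by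
      have h1 := Nat.dvd_gcd (T.orderOf_dvd_natCard (hCT hc0)) (K.orderOf_dvd_natCard hc1)
      rw [hcopT, Nat.dvd_one] at h1
      exact orderOf_eq_one_iff.mp h1
    rw [mul_inv_eq_one, mul_inv_eq_iff_eq_mul] at hc2
    exact hmove hc2
  haveI := Fact.mk hq
  have hqp : q ≠ p := fun e =>
    hp.out.one_lt.ne' (Nat.eq_one_of_dvd_coprimes hK (e ▸ hqd) dvd_rfl)
  -- a minimal moved subgroup
  obtain ⟨D, ⟨hDP, hTD, hDC⟩, hDmin⟩ := exists_minimal_of_wellFoundedLT
    (fun D : Subgroup H => D ≤ P ∧ T ≤ Subgroup.normalizer (D : Set H) ∧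
      ¬ D ≤ Subgroup.centralizer (C : Set H)) ⟨P, le_rfl, hPT, hPC⟩
  have hDq : IsPGroup q D := hPq.to_le hDP
  have hsmall : ∀ L : Subgroup H, L ≤ D → L ≠ D → T ≤ Subgroup.normalizer (L : Set H) →
      L ≤ Subgroup.centralizer (C : Set H) := fun L h1 h2 h3 => by
    by_contra h4
    exact h2 (le_antisymm h1 (hDmin (y := L) ⟨h1.trans hDP, h3, h4⟩ h1))
  have hcopC : (Nat.card C).Coprime (Nat.card D) :=
    (hcopT.coprime_dvd_left (Subgroup.card_dvd_of_le hCT)).coprime_dvd_right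
      (Subgroup.card_dvd_of_le (hDP.trans hPK))
  have hCs : Group.IsSolvable C := by
    haveI := (hT.to_le hCT).isNilpotent
    infer_instance
  have hDCeq : ⁅D, C⁆ = D := by
    by_contra hne
    have hle : ⁅D, C⁆ ≤ D := Coprime.commutator_le_of_le_normalizer (hCT.trans hTD)
    have hTn : T ≤ Subgroup.normalizer ((⁅D, C⁆ : Subgroup H) : Set H) := by
      rw [Subgroup.le_normalizer_iff]
      intro t ht x hx
      have hle2 : ⁅D, C⁆ ≤ Subgroup.comap (MulAut.conj t).toMonoidHom ⁅D, C⁆ := by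
        rw [Subgroup.commutator_le]
        intro d hd c hc
        show t * ⁅d, c⁆ * t⁻¹ ∈ ⁅D, C⁆
        rw [show t * ⁅d, c⁆ * t⁻¹ = ⁅t * d * t⁻¹, t * c * t⁻¹⁆ by
          simp only [commutatorElement_def]; group]
        exact Subgroup.commutator_mem_commutator ((Subgroup.mem_normalizer_iff.mp (hTD ht) d).mp hd)
          ((Subgroup.mem_normalizer_iff.mp (hTC ht) c).mp hc)
      exact hle2 hx
    have h1 : ⁅⁅D, C⁆, C⁆ = ⊥ :=
      Subgroup.commutator_eq_bot_iff_le_centralizer.mpr (hsmall _ hle hne hTn)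
    refine hDC (Subgroup.le_centralizer_iff.mp
      (Coprime.le_centralizer_of_commutator_commutator ?_ h1))
    exact hcopC.coprime_dvd_right (Subgroup.card_dvd_of_le hle)
  haveI := hDq.isNilpotent
  haveI hDnt : Nontrivial D := by
    rw [Subgroup.nontrivial_iff_ne_bot]
    rintro rfl
    exact hDC bot_le
  have hcharT : ∀ L : Subgroup D, L.Characteristic →
      T ≤ Subgroup.normalizer ((L.map D.subtype : Subgroup H) : Set H) := by
    intro L hL t ht
    haveI : Finite ((L.map D.subtype : Subgroup H) : Set H) := Set.toFinite _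
    refine Subgroup.mem_normalizer_fintype ?_
    rintro _ ⟨w, hw, rfl⟩
    refine ⟨Subgroup.normalizerMonoidHom D ⟨t, hTD ht⟩ w, ?_, rfl⟩
    have h := hL.fixed (Subgroup.normalizerMonoidHom D ⟨t, hTD ht⟩)
    rw [← h] at hw
    exact hw
  set Z := Subgroup.center D with hZdef
  have hΦZ : frattini D ≤ Z := by
    set L := (frattini D).map D.subtype
    have hLD : L ≤ D := Subgroup.map_subtype_le _
    have hLne : L ≠ D := by
      intro h
      have hF : frattini D = ⊤ := Subgroup.map_injective D.subtype_injective (h.trans (by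
        rw [← MonoidHom.range_eq_map, Subgroup.range_subtype]))
      obtain ⟨N, hN, -⟩ := (eq_top_or_exists_le_coatom (⊥ : Subgroup D)).resolve_left bot_ne_top
      exact hN.1 (top_le_iff.mp (hF ▸ frattini_le_coatom hN))
    have hLC : ⁅L, C⁆ = ⊥ :=
      Subgroup.commutator_eq_bot_iff_le_centralizer.mpr (hsmall L hLD hLne (hcharT _ inferInstance))
    have hLDL : ⁅L, D⁆ ≤ L := by
      refine Coprime.commutator_le_of_le_normalizer fun d hd => ?_
      haveI : Finite (L : Set H) := Set.toFinite _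
      refine Subgroup.mem_normalizer_fintype ?_
      rintro _ ⟨w, hw, rfl⟩
      exact ⟨⟨d, hd⟩ * w * ⟨d, hd⟩⁻¹, (inferInstance : (frattini D).Normal).conj_mem _ hw _, rfl⟩
    have h2 : ⁅⁅D, C⁆, L⁆ = ⊥ := Subgroup.commutator_commutator_eq_bot_of_rotate
      (by rw [Subgroup.commutator_comm C L, hLC, Subgroup.commutator_bot_left])
      (le_bot_iff.mp (hLC ▸ Subgroup.commutator_mono hLDL le_rfl))
    rw [hDCeq, Subgroup.commutator_eq_bot_iff_le_centralizer] at h2
    intro u hu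
    rw [hZdef, Subgroup.mem_center_iff]
    intro g
    exact Subtype.ext (Subgroup.mem_centralizer_iff.mp (h2 g.2) _
      (Subgroup.mem_map_of_mem _ hu)).symm
  have hquot := PGroups.elemAb_iff.mp (PGroups.frattiniQuotient_elemAb hDq)
  have hqZ : ∀ u : D, u ^ q ∈ Z := fun u => hΦZ ((QuotientGroup.eq_one_iff _).mp (by
    rw [QuotientGroup.mk_pow]; exact hquot.2 _ (Subgroup.mem_top _)))
  have hcomZ : ∀ u v : D, u * v * u⁻¹ * v⁻¹ ∈ Z := fun u v =>
    hΦZ (PGroups.commutator_le_frattini hDq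
      (Subgroup.commutator_mem_commutator (Subgroup.mem_top u) (Subgroup.mem_top v)))
  have hAZ : ∀ a ∈ A, ∀ w ∈ Z, a * (w : H) = w * a := by
    intro a ha w hw
    refine hYc hq hqp (Z.map D.subtype) ((hDq.to_subgroup Z).map _) ?_
      (hcharT _ inferInstance) a ha _ (Subgroup.mem_map_of_mem _ hw)
    rintro _ ⟨x, hx, rfl⟩ _ ⟨y, -, rfl⟩
    exact congrArg D.subtype (Subgroup.mem_center_iff.mp hx y).symm
  have hyZ : ∀ z ∈ T, ∀ w ∈ Z, z ^ p ^ m * (w : H) = w * z ^ p ^ m := by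
    intro z hz w hw
    exact (Subgroup.mem_centralizer_singleton_iff.mp (commute_abelian f hf (hexp z (hTel z hz))
      (hzero z (hTel z hz)) hqp ((hDq.to_subgroup Z).map D.subtype) (by
        rintro _ ⟨x, hx, rfl⟩ _ ⟨y, -, rfl⟩
        exact congrArg D.subtype (Subgroup.mem_center_iff.mp hx y).symm)
      (hcharT _ inferInstance hz) (Subgroup.mem_map_of_mem D.subtype hw))).symm
  -- a moving commutator
  set ψ := Subgroup.normalizerMonoidHom D with hψdef
  obtain ⟨c, hcS, hcN, u₀, hu₀⟩ : ∃ c ∈ S₀, ∃ hcN : c ∈ Subgroup.normalizer (D : Set H),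
      ∃ u : D, u⁻¹ * ψ ⟨c, hcN⟩ u ∉ Z := by
    by_contra hno
    push Not at hno
    refine hDC (Subgroup.le_centralizer_iff.mp ?_)
    rw [hC, Subgroup.closure_le]
    intro c hc
    rw [SetLike.mem_coe, Subgroup.mem_centralizer_iff]
    intro d hd
    have hcN := hTD (hCT (Subgroup.subset_closure hc))
    have h1 := hno c hc hcN ⟨d, hd⟩
    set w := (⟨d, hd⟩ : D)⁻¹ * ψ ⟨c, hcN⟩ ⟨d, hd⟩ with hwdef
    have hfixw : ψ ⟨c, hcN⟩ w = w := Subtype.ext (by
      show c * (w : H) * c⁻¹ = w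
      rw [hAZ c (hS₀A hc) w h1, mul_inv_cancel_right])
    have h2 := OddPower.pow_apply_mul (α := ψ ⟨c, hcN⟩) (y := ⟨d, hd⟩) (c := w)
      (by rw [hwdef, mul_inv_cancel_left]) hfixw
    obtain ⟨i, hi⟩ := hTel c (hCT (Subgroup.subset_closure hc))
    have h3 : (ψ ⟨c, hcN⟩) ^ p ^ i = 1 := by
      rw [← map_pow, ← map_one ψ]
      exact congrArg ψ (Subtype.ext hi)
    have h4 := h2 (p ^ i)
    rw [h3, MulAut.one_apply, left_eq_mul] at h4
    obtain ⟨j, hj⟩ := hDq w
    have h5 : w = 1 := by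
      have h6 := Nat.dvd_gcd (orderOf_dvd_of_pow_eq_one h4) (orderOf_dvd_of_pow_eq_one hj)
      rw [Nat.Coprime.pow i j ((Nat.coprime_primes hp.out hq).mpr (Ne.symm hqp)), Nat.dvd_one] at h6
      exact orderOf_eq_one_iff.mp h6
    rw [hwdef, inv_mul_eq_one] at h5
    have h7 : c * d * c⁻¹ = d := (congrArg Subtype.val h5).symm
    exact (mul_inv_eq_iff_eq_mul.mp h7).symm
  obtain ⟨v₀, hv₀⟩ : ∃ v : D, (u₀⁻¹ * ψ ⟨c, hcN⟩ u₀) * v * (u₀⁻¹ * ψ ⟨c, hcN⟩ u₀)⁻¹ * v⁻¹ ≠ 1 := by
    by_contra hno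
    push Not at hno
    refine hu₀ (Subgroup.mem_center_iff.mpr fun g => ?_)
    have := hno g
    rw [mul_inv_eq_one, mul_inv_eq_iff_eq_mul] at this
    exact this.symm
  obtain ⟨z, hzT, a, haA, hcval⟩ := hcS
  -- the central character
  set ρ := f.comp D.subtype with hρdef
  have hρinj : Function.Injective ρ := hf.comp D.subtype_injective
  set ρZ := ρ.comp Z.subtype
  set ζ : Z := ⟨_, hcomZ (u₀⁻¹ * ψ ⟨c, hcN⟩ u₀) v₀⟩
  have hρZcomm : ∀ a b, Commute (ρZ a) (ρZ b) := fun a b => by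
    rw [Commute, SemiconjBy, ← map_mul, ← map_mul]
    exact congrArg ρZ (Subtype.ext (Subgroup.mem_center_iff.mp b.2 a))
  obtain ⟨w₀, μ, hwW, hw0, hμw⟩ := EigenChar.exists_common_eigenvector ρZ hρZcomm
    (LinearMap.range (ρZ ζ - 1))
    (fun h => hv₀ (hρinj ((sub_eq_zero.mp (LinearMap.range_eq_bot.mp h)).trans (map_one ρ).symm)))
    (fun b v hv => by
      obtain ⟨u, rfl⟩ := hv
      refine ⟨ρZ b u, ?_⟩
      rw [← Module.End.mul_apply, ← Module.End.mul_apply]
      exact LinearMap.congr_fun ((hρZcomm b ζ).sub_right (Commute.one_right _)).eq.symm u)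
  have hμζ : μ ζ ≠ 1 := by
    intro h
    obtain ⟨u, hu⟩ := hwW
    refine hw0 ?_
    have hu' : ρZ ζ u - u = w₀ := hu
    rw [← hu', sub_eq_zero]
    refine EigenChar.eq_of_apply_sub_fixed (ρZ ζ) (o := Nat.card Z) ?_
      (natCast_card_ne_zero hqp (hDq.to_subgroup Z)) u ?_
    · rw [← map_pow, pow_card_eq_one', map_one]
    · rw [hu', hμw, h, one_smul]
  let χ : D → D → k := fun u v => μ ⟨_, hcomZ u v⟩
  have hχmul : ∀ a b v, χ (a * b) v = χ a v * χ b v := fun a b v => by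
    show μ _ = μ _ * μ _
    rw [mul_comm (μ _) (μ _), ← map_mul]
    refine congrArg μ (Subtype.ext ?_)
    show a * b * v * (a * b)⁻¹ * v⁻¹ = (b * v * b⁻¹ * v⁻¹) * (a * v * a⁻¹ * v⁻¹)
    calc a * b * v * (a * b)⁻¹ * v⁻¹
        = a * (b * v * b⁻¹ * v⁻¹) * a⁻¹ * (a * v * a⁻¹ * v⁻¹) := by group
      _ = (b * v * b⁻¹ * v⁻¹) * (a * v * a⁻¹ * v⁻¹) := by
        rw [Subgroup.mem_center_iff.mp (hcomZ b v) a]
        group
  have hχsymm : ∀ a b, χ a b * χ b a = 1 := fun a b => by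
    show μ _ * μ _ = 1
    rw [← map_mul, ← map_one μ]
    refine congrArg μ (Subtype.ext ?_)
    show a * b * a⁻¹ * b⁻¹ * (b * a * b⁻¹ * a⁻¹) = 1
    group
  have hχmulr : ∀ a b c, χ a (b * c) = χ a b * χ a c := fun a b c => by
    have h1 := hχsymm (b * c) a
    rw [hχmul] at h1
    have h2 := hχsymm b a
    have h3 := hχsymm c a
    calc χ a (b * c) = χ a (b * c) * ((χ b a * χ a b) * (χ c a * χ a c)) := by
          rw [h2, h3, one_mul, mul_one]
      _ = (χ b a * χ c a * χ a (b * c)) * (χ a b * χ a c) := by ring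
      _ = χ a b * χ a c := by rw [h1, one_mul]
  have hχZ : ∀ z ∈ Z, ∀ v, χ z v = 1 := fun z hz v => by
    show μ _ = 1
    rw [← map_one μ]
    refine congrArg μ (Subtype.ext ?_)
    show z * v * z⁻¹ * v⁻¹ = 1
    rw [← Subgroup.mem_center_iff.mp hz v, mul_inv_cancel_right, mul_inv_cancel]
  let R : Subgroup D :=
    { carrier := {u | ∀ v, χ u v = 1}
      mul_mem' := fun {a b} ha hb v => by rw [hχmul, ha, hb, one_mul]
      one_mem' := fun v => hχZ 1 (one_mem _) v
      inv_mem' := fun {a} ha v => by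
        have := hχmul a⁻¹ a v
        rw [inv_mul_cancel, hχZ 1 (one_mem _) v, ha, mul_one] at this
        exact this.symm }
  have hZR : Z ≤ R := fun z hz v => hχZ z hz v
  haveI hRn : R.Normal := ⟨fun r hr g => by
    have := R.mul_mem (hZR (hcomZ g r)) hr
    rwa [inv_mul_cancel_right] at this⟩
  -- the operators
  set β := ψ ⟨z, hTD hzT⟩ with hβdef
  set y := β ^ p ^ m with hydef
  have hβpow : ∀ (i : ℕ) (u : D), (((β ^ i) u : D) : H) = z ^ i * u * (z ^ i)⁻¹ := fun i u => by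
    rw [hβdef, ← map_pow]
    rfl
  have hyfixZ : ∀ w ∈ Z, y w = w := fun w hw => Subtype.ext (by
    rw [hydef, hβpow, hyZ z hzT w hw, mul_inv_cancel_right])
  have hyχ : ∀ a b, χ (y a) (y b) = χ a b := fun a b => by
    refine congrArg μ (Subtype.ext ?_)
    show y a * y b * (y a)⁻¹ * (y b)⁻¹ = a * b * a⁻¹ * b⁻¹
    rw [← map_inv, ← map_inv, ← map_mul, ← map_mul, ← map_mul, hyfixZ _ (hcomZ a b)]
  have hχR : ∀ w, w⁻¹ * y w ∈ R → ∀ g, χ (y w) g = χ w g := fun w hw g => by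
    rw [show y w = w * (w⁻¹ * y w) by rw [mul_inv_cancel_left], hχmul, hw g, mul_one]
  have hχR' : ∀ g r, r ∈ R → χ g r = 1 := fun g r hr => by
    have := hχsymm r g
    rwa [hr g, one_mul] at this
  -- the moved part
  set D₁ := Subgroup.closure (Set.range fun s : D => s⁻¹ * y s) with hD₁
  set D₂ := D₁ ⊔ Z with hD₂
  have hperp : ∀ w, (∀ s, χ w (s⁻¹ * y s) = 1) → ∀ g ∈ D₂, χ w g = 1 := by
    intro w hw g hg
    let K₁ : Subgroup D :=
      { carrier := {g | χ w g = 1}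
        mul_mem' := fun {a b} ha hb => by
          show χ w (a * b) = 1
          rw [hχmulr, ha, hb, mul_one]
        one_mem' := hχR' w 1 (one_mem R)
        inv_mem' := fun {a} ha => by
          have h := hχmulr w a a⁻¹
          rw [mul_inv_cancel, hχR' w 1 (one_mem R), ha, one_mul] at h
          exact h.symm }
    have hle : D₂ ≤ K₁ := sup_le ((Subgroup.closure_le _).mpr (by
      rintro _ ⟨s, rfl⟩
      exact hw s)) fun x hx => hχR' w x (hZR hx)
    exact hle hg
  have hgenfix : ∀ w, w⁻¹ * y w ∈ R → ∀ g ∈ D₂, χ w g = 1 := fun w hw => hperp w fun s => by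
    have h1 : χ w (y s) = χ w s := by rw [← hχR w hw, hyχ]
    have h2 := hχmulr w s (s⁻¹ * y s)
    rw [mul_inv_cancel_left, h1] at h2
    have hne : χ w s ≠ 0 := fun h => by
      have := hχsymm w s
      rw [h, zero_mul] at this
      exact zero_ne_one this
    exact (mul_eq_left₀ hne).mp h2.symm
  have hyp : y ^ p = 1 := by
    rw [hydef, ← pow_mul, ← pow_succ]
    exact MulEquiv.ext fun u => Subtype.ext (by rw [hβpow, hexp z (hTel z hzT)]; simp)
  have hradical : ∀ u ∈ D₂, (∀ g ∈ D₂, χ u g = 1) → u ∈ R := by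
    intro u hu hperp' s
    have hys : ∀ i : ℕ, χ u ((y ^ i) s) = χ u s := by
      intro i
      induction i with
      | zero => rfl
      | succ i ih =>
        rw [pow_succ', MulAut.mul_apply,
          show y ((y ^ i) s) = (y ^ i) s * (((y ^ i) s)⁻¹ * y ((y ^ i) s)) by
            rw [mul_inv_cancel_left],
          hχmulr, ih, hperp' _ (Subgroup.mem_sup_left (Subgroup.subset_closure ⟨_, rfl⟩)), mul_one]
    let w : ℕ → D := fun i => ((List.range i).map fun j => (y ^ j) s).prod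
    have hws : ∀ i, w (i + 1) = w i * (y ^ i) s := fun i => by
      simp [w, List.range_succ]
    have hwχ : ∀ i, χ u (w i) = χ u s ^ i := by
      intro i
      induction i with
      | zero => rw [pow_zero]; exact hχR' u 1 (one_mem R)
      | succ i ih => rw [hws, hχmulr, ih, hys, pow_succ]
    have hwA : ∀ i, Abelianization.of (y (w i)) * Abelianization.of s =
        Abelianization.of (w (i + 1)) := by
      intro i
      induction i with
      | zero => simp [hws, w]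
      | succ i ih =>
        rw [hws (i + 1), map_mul (Abelianization.of : D →* _), ← ih, hws i, map_mul y,
          map_mul (Abelianization.of : D →* _), ← MulAut.mul_apply, ← pow_succ']
        exact mul_right_comm _ _ _
    have hd : (w p)⁻¹ * y (w p) ∈ commutator D := by
      rw [← Abelianization.ker_of, MonoidHom.mem_ker, map_mul, map_inv, inv_mul_eq_one]
      have h1 := hwA p
      rw [hws, map_mul, hyp] at h1
      exact (mul_right_cancel h1).symm
    have hwR : (w p)⁻¹ * y (w p) ∈ R :=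
      hZR (hΦZ (PGroups.commutator_le_frattini hDq hd))
    have h2 : χ u s ^ p = 1 := by
      rw [← hwχ]
      have h3 := hgenfix _ hwR u hu
      have h4 := hχsymm u (w p)
      rwa [h3, mul_one] at h4
    obtain ⟨j, hj⟩ := (hDq.to_subgroup Z) ⟨_, hcomZ u s⟩
    have h5 : χ u s ^ q ^ j = 1 := by
      show μ _ ^ q ^ j = 1
      rw [← map_pow, hj, map_one]
    have h6 := Nat.dvd_gcd (orderOf_dvd_of_pow_eq_one h2) (orderOf_dvd_of_pow_eq_one h5)
    rw [Nat.Coprime.pow_right j ((Nat.coprime_primes hp.out hq).mpr (Ne.symm hqp)), Nat.dvd_one] at h6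
    exact orderOf_eq_one_iff.mp h6
  have hcR : ¬ ∀ u, u⁻¹ * y u ∈ R := by
    intro hall
    have haN := hTD (hAT haA)
    have hRa : ∀ r ∈ R, ψ ⟨a, haN⟩ r ∈ R := fun r hr v => by
      obtain ⟨v, rfl⟩ := (ψ ⟨a, haN⟩).surjective v
      refine Eq.trans (congrArg μ (Subtype.ext ?_)) (hr v)
      show ψ ⟨a, haN⟩ r * ψ ⟨a, haN⟩ v * (ψ ⟨a, haN⟩ r)⁻¹ * (ψ ⟨a, haN⟩ v)⁻¹ = r * v * r⁻¹ * v⁻¹
      rw [← map_inv, ← map_inv, ← map_mul, ← map_mul, ← map_mul]
      exact Subtype.ext (by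
        show a * _ * a⁻¹ = _
        rw [hAZ a haA _ (hcomZ r v), mul_inv_cancel_right])
    refine hμζ ?_
    have hd : u₀⁻¹ * ψ ⟨c, hcN⟩ u₀ ∈ R := by
      set u' := (ψ ⟨a, haN⟩).symm u₀ with hu'
      have hc' : ψ ⟨c, hcN⟩ u₀ = y (ψ ⟨a, haN⟩ (y.symm u')) := by
        refine Subtype.ext ?_
        show c * (u₀ : H) * c⁻¹ = _
        have e1 : ((y (ψ ⟨a, haN⟩ (y.symm u')) : D) : H) =
            z ^ p ^ m * (a * (y.symm u' : H) * a⁻¹) * (z ^ p ^ m)⁻¹ := by
          rw [hydef, hβpow]; rfl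
        have e2 : (u' : H) = z ^ p ^ m * (y.symm u' : H) * (z ^ p ^ m)⁻¹ := by
          rw [← hβpow, ← hydef, MulEquiv.apply_symm_apply]
        have e3 : (u₀ : H) = a * (u' : H) * a⁻¹ := by
          conv_lhs => rw [← MulEquiv.apply_symm_apply (ψ ⟨a, haN⟩) u₀]
          rfl
        rw [e1, e3, e2, hcval]
        group
      have h1 : ∀ s, s⁻¹ * y.symm s ∈ R := fun s => by
        have h := R.inv_mem (hall (y.symm s))
        rwa [MulEquiv.apply_symm_apply, mul_inv_rev, inv_inv] at h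
      set x := y.symm u'
      have h2 : u₀⁻¹ * ψ ⟨a, haN⟩ x ∈ R := by
        rw [show u₀ = ψ ⟨a, haN⟩ u' by rw [hu', MulEquiv.apply_symm_apply], ← map_inv, ← map_mul]
        exact hRa _ (h1 u')
      have h3 := R.mul_mem h2 (hall (ψ ⟨a, haN⟩ x))
      rwa [mul_assoc, mul_inv_cancel_left, ← hc'] at h3
    exact hd v₀
  have hne2 : ∃ u v : D₂, μ ⟨_, hcomZ u v⟩ ≠ 1 := by
    by_contra hno
    push Not at hno
    refine hcR fun s => hradical _ (Subgroup.mem_sup_left (Subgroup.subset_closure ⟨s, rfl⟩))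
      fun g hg => hno ⟨_, Subgroup.mem_sup_left (Subgroup.subset_closure ⟨s, rfl⟩)⟩ ⟨g, hg⟩
  have hD₂inv : ∀ g ∈ D₂, β g ∈ D₂ := by
    have hle : D₂ ≤ D₂.comap β.toMonoidHom := sup_le ((Subgroup.closure_le _).mpr (by
      rintro _ ⟨s, rfl⟩
      refine Subgroup.mem_sup_left (Subgroup.subset_closure ⟨β s, ?_⟩)
      simp only [MulEquiv.coe_toMonoidHom, map_mul, map_inv]
      rw [← MulAut.mul_apply, hydef, ← pow_succ, pow_succ', MulAut.mul_apply])) fun x hx => by
      have h := (inferInstance : Z.Characteristic).fixed β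
      rw [← h] at hx
      exact Subgroup.mem_sup_right hx
    exact fun g hg => hle hg
  set β₂ := OddPower.subAut β D₂ hD₂inv
  set Z₂ := Z.subgroupOf D₂
  have hmain := radical_dichotomy (M := M) (n := m) hqp (hDq.to_subgroup D₂) β₂ ?_ Z₂
    (fun x hx => Subgroup.mem_center_iff.mpr fun g => Subtype.ext (Subgroup.mem_center_iff.mp hx g))
    (fun u v => hcomZ u v) ?_
    (μ.comp ((D₂.subtype.comp Z₂.subtype).codRestrict Z fun x => x.2))
    hne2 ?_ (ρ.comp D₂.subtype) (f z) ?_ ?_ w₀ hw0 (fun w => hμw ⟨((w : D₂) : D), w.2⟩)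
  rotate_left
  · refine MulEquiv.ext fun u => Subtype.ext ?_
    rw [OddPower.coe_subAut_pow]
    exact Subtype.ext (by rw [hβpow, hexp z (hTel z hzT)]; simp)
  · intro x hx
    have h := (inferInstance : Z.Characteristic).fixed β
    have hx' : ((x : D₂) : D) ∈ Z := hx
    rw [← h] at hx'
    exact hx'
  · intro u hu v
    have hr : ((u⁻¹ * (β₂ ^ p ^ m) u : D₂) : D) = (u : D)⁻¹ * y (u : D) := by
      rw [Subgroup.coe_mul, Subgroup.coe_inv, OddPower.coe_subAut_pow]
    have h1 : (u : D)⁻¹ * y u ∈ R := by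
      rw [← hr]
      exact hradical _ (u⁻¹ * (β₂ ^ p ^ m) u).2 fun g hg => hu ⟨g, hg⟩
    exact hgenfix _ h1 _ v.2
  · rw [← map_pow, hexp z (hTel z hzT), map_one]
  · intro u
    show f z * f ((u : D) : H) = f (((β (u : D)) : D) : H) * f z
    rw [← map_mul, ← map_mul]
    congr 1
    have h := hβpow 1 (u : D)
    rw [pow_one, pow_one] at h
    rw [h, inv_mul_cancel_right]
  rcases hmain with h | ⟨l, e, d, hme, hd1, hqd, hμl, hR2⟩
  · exact h (hzero z (hTel z hzT))
  -- the radical quotient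
  have hindex : (R.subgroupOf D₂).index = q ^ d * q ^ d := hR2 _ fun u =>
    ⟨fun h v => h (v : D), fun h => hradical _ u.2 fun g hg => h ⟨g, hg⟩⟩
  have hRcomm : ∀ u v : D ⧸ R, u * v = v * u := fun u v => by
    obtain ⟨u, rfl⟩ := QuotientGroup.mk_surjective u
    obtain ⟨v, rfl⟩ := QuotientGroup.mk_surjective v
    rw [← QuotientGroup.mk_mul, ← QuotientGroup.mk_mul, QuotientGroup.eq]
    have h := hZR (hcomZ v⁻¹ u⁻¹)
    rwa [inv_inv, inv_inv, show v⁻¹ * u⁻¹ * v * u = (u * v)⁻¹ * (v * u) by group] at h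
  letI : CommGroup (D ⧸ R) := { (inferInstance : Group (D ⧸ R)) with mul_comm := hRcomm }
  obtain ⟨hmod⟩ : Nonempty (Module (ZMod q) (Additive (D ⧸ R))) :=
    ⟨AddCommGroup.zmodModule fun v => by
      apply Additive.toMul.injective
      rw [toMul_nsmul, toMul_zero]
      obtain ⟨w, hw⟩ := QuotientGroup.mk_surjective (Additive.toMul v)
      rw [← hw, ← QuotientGroup.mk_pow]
      exact (QuotientGroup.eq_one_iff _).mpr (hZR (hqZ w))⟩
  let St : Subgroup (MulAut D) :=
    { carrier := {δ | ∀ w : Z, ∀ h : δ w ∈ Z, μ ⟨δ w, h⟩ = μ w}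
      mul_mem' := fun {δ ε} hδ hε w h => by
        have h1 : ε w ∈ Z := by
          exact Subgroup.characteristic_iff_map_le.mp (inferInstance : Z.Characteristic) ε
            (Subgroup.mem_map_of_mem _ w.2)
        rw [← hε w h1]
        exact hδ ⟨ε w, h1⟩ h
      one_mem' := fun w h => rfl
      inv_mem' := fun {δ} hδ w h => by
        have h1 := hδ ⟨δ⁻¹ w, h⟩ (by rw [MulAut.apply_inv_self]; exact w.2)
        rw [← h1]
        congr 1
        exact Subtype.ext (MulAut.apply_inv_self _ _ _) }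
  have hStR : ∀ δ : St, R ≤ R.comap (δ : MulAut D).toMonoidHom := by
    rintro ⟨δ, hδ⟩ r hr v
    obtain ⟨v, rfl⟩ := δ.surjective v
    have h1 : δ (r * v * r⁻¹ * v⁻¹) ∈ Z := by simp only [map_mul, map_inv]; exact hcomZ _ _
    have h2 := hδ ⟨_, hcomZ r v⟩ h1
    refine Eq.trans (congrArg μ (Subtype.ext ?_)) (h2.trans (hr v))
    show δ r * δ v * (δ r)⁻¹ * (δ v)⁻¹ = δ (r * v * r⁻¹ * v⁻¹)
    simp only [map_mul, map_inv]
  let L : St →* Module.End (ZMod q) (Additive (D ⧸ R)) :=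
    { toFun := fun δ => (MonoidHom.toAdditive
        (QuotientGroup.map R R (δ : MulAut D).toMonoidHom (hStR δ))).toZModLinearMap q
      map_one' := LinearMap.ext fun v => by
        obtain ⟨w, hw⟩ := QuotientGroup.mk_surjective (Additive.toMul v)
        rw [← ofMul_toMul v, ← hw]
        rfl
      map_mul' := fun δ ε => LinearMap.ext fun v => by
        obtain ⟨w, hw⟩ := QuotientGroup.mk_surjective (Additive.toMul v)
        rw [← ofMul_toMul v, ← hw]
        rfl }
  have hLapp : ∀ (δ : St) (w : D), L δ (Additive.ofMul (w : D ⧸ R)) =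
      Additive.ofMul (((δ : MulAut D) w : D) : D ⧸ R) := fun δ w => rfl
  have hβl : β ^ p ^ l ∈ St := fun w h => by
    have hw : (w : D) ∈ D₂ := Subgroup.mem_sup_right w.2
    have h' : (β₂ ^ p ^ l) ⟨w, hw⟩ ∈ Z₂ := by
      rw [Subgroup.mem_subgroupOf, OddPower.coe_subAut_pow]
      exact h
    have h2 := hμl ⟨⟨w, hw⟩, w.2⟩ h'
    refine Eq.trans ?_ h2
    exact congrArg μ (Subtype.ext (OddPower.coe_subAut_pow β D₂ hD₂inv (p ^ l) ⟨w, hw⟩).symm)
  set γ : St := ⟨β ^ p ^ l, hβl⟩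
  have hAN : ∀ b : A, (b : H) ∈ Subgroup.normalizer (D : Set H) := fun b => hTD (hAT b.2)
  have hASt : ∀ b : A, ψ ⟨b, hAN b⟩ ∈ St := fun b w h => by
    refine congrArg μ (Subtype.ext (Subtype.ext ?_))
    show (b : H) * ((w : D) : H) * (b : H)⁻¹ = _
    rw [hAZ b b.2 w w.2, mul_inv_cancel_right]
  let ιA : A →* St :=
    { toFun := fun b => ⟨ψ ⟨b, hAN b⟩, hASt b⟩
      map_one' := Subtype.ext (map_one ψ)
      map_mul' := fun b b' => Subtype.ext (map_mul ψ ⟨b, hAN b⟩ ⟨b', hAN b'⟩) }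
  have hzA : z ^ p ^ l ∈ Subgroup.normalizer (A : Set H) := hTA (T.pow_mem hzT _)
  set βA := Subgroup.normalizerMonoidHom A ⟨_, hzA⟩ with hβA
  have hzpow : (z ^ p ^ l) ^ p ^ e = z ^ p ^ m := by rw [← pow_mul, ← pow_add, ← hme]
  have hzone : (z ^ p ^ l) ^ p ^ (e + 1) = 1 := by
    rw [← pow_mul, ← pow_add, show l + (e + 1) = m + 1 by omega, hexp z (hTel z hzT)]
  have hβA1 : βA ^ p ^ (e + 1) = 1 := by
    rw [hβA, ← map_pow, ← map_one (Subgroup.normalizerMonoidHom A)]
    exact congrArg _ (Subtype.ext hzone)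
  have hγ1 : L γ ^ p ^ (e + 1) = 1 := by
    rw [← map_pow, ← map_one L]
    refine congrArg L (Subtype.ext ?_)
    show (β ^ p ^ l) ^ p ^ (e + 1) = 1
    rw [hβdef, ← map_pow, ← map_pow, ← map_one ψ]
    exact congrArg ψ (Subtype.ext hzone)
  have hγA : ∀ b, L γ * L (ιA b) = L (ιA (βA b)) * L γ := fun b => by
    rw [← map_mul, ← map_mul]
    refine congrArg L (Subtype.ext ?_)
    show β ^ p ^ l * ψ ⟨b, hAN b⟩ = ψ ⟨(βA b : H), hAN (βA b)⟩ * β ^ p ^ l
    rw [hβdef, ← map_pow, ← map_mul, ← map_mul]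
    refine congrArg ψ (Subtype.ext ?_)
    show z ^ p ^ l * (b : H) = z ^ p ^ l * (b : H) * (z ^ p ^ l)⁻¹ * z ^ p ^ l
    rw [inv_mul_cancel_right]
  have hmoved : ∃ b : A, L (ιA ((βA ^ p ^ e) b)) ≠ L (ιA b) := by
    refine ⟨⟨a, haA⟩, fun h => hμζ ?_⟩
    have hd : u₀⁻¹ * ψ ⟨c, hcN⟩ u₀ ∈ R := by
      have h1 : L (ιA ((βA ^ p ^ e) ⟨a, haA⟩ * ⟨a, haA⟩⁻¹)) = 1 := by
        rw [map_mul, map_mul, h, ← map_mul, ← map_mul, mul_inv_cancel, map_one, map_one]
      have h2 := LinearMap.congr_fun h1 (Additive.ofMul (u₀ : D ⧸ R))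
      rw [hLapp, Module.End.one_apply] at h2
      have h3 := QuotientGroup.eq.mp (Additive.ofMul.injective h2).symm
      convert h3 using 3
      show ψ ⟨c, hcN⟩ = ψ _
      refine congrArg ψ (Subtype.ext ?_)
      show c = ((βA ^ p ^ e) ⟨a, haA⟩ : A) * a⁻¹
      rw [hβA, ← map_pow, hcval]
      show _ = (z ^ p ^ l) ^ p ^ e * a * ((z ^ p ^ l) ^ p ^ e)⁻¹ * a⁻¹
      rw [hzpow]
    exact hd v₀
  have hPq1 : q ^ d + 1 = p ^ (e + 1) := by
    rw [hqd, Nat.sub_add_cancel (Nat.one_le_pow _ _ hp.out.pos)]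
  have hq1 : (q : ZMod p) ≠ 1 := by
    intro h
    have h1 := congrArg (fun x : ℕ => (x : ZMod p)) hPq1
    simp only [Nat.cast_add, Nat.cast_pow, h, one_pow, Nat.cast_one, ZMod.natCast_self,
      zero_pow (Nat.succ_ne_zero e)] at h1
    have h2 : ((2 : ℕ) : ZMod p) = 0 := by
      rw [show (2 : ℕ) = 1 + 1 from rfl, Nat.cast_add, Nat.cast_one, h1]
    exact hp2 ((Nat.prime_dvd_prime_iff_eq hp.out Nat.prime_two).mp
      ((ZMod.natCast_eq_zero_iff _ _).mp h2))
  have hrank := two_mul_le_finrank_range (p := p) (q := q) (Ne.symm hqp) hq1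
    (hT.to_le hAT) (fun a b => Subtype.ext (hAc _ a.2 _ b.2)) βA hβA1 (L.comp ιA) (L γ) hγ1
    hγA hmoved
  -- its size
  have hy' : ((γ ^ p ^ e : St) : MulAut D) = y := by
    show (β ^ p ^ l) ^ p ^ e = _
    rw [hydef, ← pow_mul, ← pow_add, ← hme]
  set g := (QuotientGroup.mk' R).comp D₂.subtype
  have hsub : ∀ v ∈ LinearMap.range (L γ ^ p ^ e - 1 : Module.End (ZMod q) (Additive (D ⧸ R))),
      Additive.toMul v ∈ g.range := by
    rintro _ ⟨v, rfl⟩
    obtain ⟨w, hw⟩ := QuotientGroup.mk_surjective (Additive.toMul v)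
    rw [← ofMul_toMul v, ← hw, LinearMap.sub_apply, Module.End.one_apply, ← map_pow, hLapp, hy']
    refine ⟨⟨w⁻¹ * y w, Subgroup.mem_sup_left (Subgroup.subset_closure ⟨w, rfl⟩)⟩, ?_⟩
    show ((w⁻¹ * y w : D) : D ⧸ R) = Additive.toMul (Additive.ofMul ((y w : D) : D ⧸ R) -
      Additive.ofMul (w : D ⧸ R))
    rw [toMul_sub, toMul_ofMul, toMul_ofMul, QuotientGroup.mk_mul, QuotientGroup.mk_inv,
      div_eq_mul_inv, mul_comm]
  have hcardg : Nat.card g.range = q ^ d * q ^ d := by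
    rw [← Subgroup.index_ker, show g.ker = R.subgroupOf D₂ by rw [← MonoidHom.comap_ker, QuotientGroup.ker_mk']; rfl]
    exact hindex
  set Rg := LinearMap.range (L γ ^ p ^ e - 1 : Module.End (ZMod q) (Additive (D ⧸ R)))
  have hcle : Nat.card Rg ≤ Nat.card g.range :=
    Nat.card_le_card_of_injective (fun v => (⟨_, hsub v v.2⟩ : g.range)) fun v w h =>
      Subtype.ext (Additive.toMul.injective (congrArg Subtype.val h :))
  rw [hcardg, Module.natCard_eq_pow_finrank (K := ZMod q), Nat.card_zmod, ← pow_add] at hcle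
  have hfin := (Nat.pow_le_pow_iff_right hq.one_lt).mp hcle
  have h2d : 2 * d ≤ q ^ d := by
    refine le_trans ?_ (Nat.pow_le_pow_left hq.two_le d)
    obtain ⟨d', rfl⟩ : ∃ d', d = d' + 1 := ⟨d - 1, by omega⟩
    rw [pow_succ']
    exact Nat.mul_le_mul_left 2 (Nat.lt_two_pow_self).nat_succ_le
  have hp3 : 3 * p ^ e ≤ p ^ (e + 1) := by
    rw [pow_succ']
    exact Nat.mul_le_mul_right _ (by have := hp.out.two_le; omega)
  have := pow_pos hp.out.pos e
  omega

end Cfsg.Agent.Lib.PLengthTwoE
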