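/-
For an odd prime `p`, a `p`-solvable group whose `p`-elements have order dividing `p ^ e` has
`p`-length at most `2 e`.
-/
import Mathlib
import Cfsg.Agent.Lib.PLengthTwoE.Moved
import Cfsg.Agent.Lib.PSolvable.PLengthExponent
import Cfsg.Agent.Lib.PGroups.MaxAbelian

set_option autoImplicit false
set_option linter.unusedSectionVars false
set_option linter.style.haveILetI false

namespace Cfsg.Agent.Lib.PLengthTwoE

open Module Cfsg.Agent.Lib.HallHigmanB Cfsg.Agent.Lib.PSolvable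
open scoped commutatorElement

universe u

variable {p : ℕ} [hp : Fact p.Prime]

/-- A maximal abelian subgroup of `P` normalised by the `p`-group `T`. -/
theorem exists_abelian_selfcentralizing {H : Type u} [Group H] [Finite H] (T P : Subgroup H)
    (hT : IsPGroup p T) (hPT : P ≤ T) (hTP : T ≤ Subgroup.normalizer (P : Set H)) :
    ∃ A : Subgroup H, A ≤ P ∧ (∀ a ∈ A, ∀ b ∈ A, a * b = b * a) ∧
      T ≤ Subgroup.normalizer (A : Set H) ∧ P ⊓ Subgroup.centralizer (A : Set H) ≤ A := by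
  set P' := P.subgroupOf T
  haveI hP'n : P'.Normal := (Subgroup.normal_subgroupOf_iff_le_normalizer hPT).2 hTP
  obtain ⟨A, ⟨hAn, hA, hAP⟩, hmax⟩ :=
    (Set.toFinite {B : Subgroup T | B.Normal ∧ IsMulCommutative B ∧ B ≤ P'}).exists_maximal
      ⟨⊥, inferInstance, ⟨⟨fun a b => Subsingleton.elim _ _⟩⟩, bot_le⟩
  haveI := hAn
  have hCA : P' ⊓ Subgroup.centralizer (A : Set T) ≤ A := by
    by_contra hle
    let g := QuotientGroup.mk' A
    have hCn : ((P' ⊓ Subgroup.centralizer (A : Set T)).map g).Normal :=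
      (inferInstance : (P' ⊓ Subgroup.centralizer (A : Set T)).Normal).map g
        (QuotientGroup.mk'_surjective A)
    have hne : (P' ⊓ Subgroup.centralizer (A : Set T)).map g ≠ ⊥ := by
      rw [Ne, Subgroup.map_eq_bot_iff, QuotientGroup.ker_mk']
      exact hle
    obtain ⟨Z, hZC, hZc, -, hZ⟩ := PGroups.exists_central_card_prime (hT.to_quotient A) _ hne
    have hZne : Z ≠ ⊥ := by
      rintro rfl
      rw [Subgroup.card_bot] at hZ
      exact hp.out.one_lt.ne hZ
    obtain ⟨z, hz, hz1⟩ := Z.bot_or_exists_ne_one.resolve_left hZne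
    obtain ⟨x, ⟨hxP, hxC⟩, rfl⟩ := hZC hz
    have hc : ∀ t : T, ⁅t, x⁆ ∈ A := fun t => by
      have h : g ⁅t, x⁆ = 1 := by
        rw [map_commutatorElement, commutatorElement_eq_one_iff_mul_comm]
        exact Subgroup.mem_center_iff.mp (hZc hz) (g t)
      exact (QuotientGroup.eq_one_iff _).mp h
    have hB := hmax ⟨PGroups.normal_sup_zpowers hc, PGroups.isMulCommutative_sup_zpowers hA hxC,
      sup_le hAP (Subgroup.zpowers_le.mpr hxP)⟩ le_sup_left
    exact hz1 ((QuotientGroup.eq_one_iff x).mpr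
      (hB (le_sup_right (a := A) (Subgroup.mem_zpowers x))))
  refine ⟨A.map T.subtype, ?_, ?_, ?_, ?_⟩
  · rintro _ ⟨a, ha, rfl⟩
    exact hAP ha
  · rintro _ ⟨a, ha, rfl⟩ _ ⟨b, hb, rfl⟩
    exact congrArg T.subtype (congrArg Subtype.val (hA.is_comm.comm ⟨a, ha⟩ ⟨b, hb⟩))
  · intro t ht
    haveI : Finite ((A.map T.subtype : Subgroup H) : Set H) := Set.toFinite _
    refine Subgroup.mem_normalizer_fintype ?_
    rintro _ ⟨a, ha, rfl⟩
    exact ⟨⟨t, ht⟩ * a * ⟨t, ht⟩⁻¹, hAn.conj_mem a ha _, rfl⟩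
  · rintro x ⟨hxP, hxC⟩
    refine ⟨⟨x, hPT hxP⟩, hCA ⟨hxP, ?_⟩, rfl⟩
    intro a ha
    exact Subtype.ext (hxC _ (Subgroup.mem_map_of_mem _ ha))

/-- Two layers: below a faithful deficient module the exponent drops. -/
theorem two_layer (hp2 : p ≠ 2) {H : Type u} [Group H] [Finite H] (hsol : Cfsg.IsPSolvable p H)
    (hO : Cfsg.pCore p H = ⊥) {F : Type*} [Field F] [CharP F p] {V : Type*} [AddCommGroup V]
    [Module F V] [FiniteDimensional F V] (f : H →* Module.End F V) (hf : Function.Injective f)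
    {m : ℕ} (hexp : ∀ z : H, (∃ i : ℕ, z ^ p ^ i = 1) → z ^ p ^ (m + 1) = 1)
    (hzero : ∀ z : H, (∃ i : ℕ, z ^ p ^ i = 1) → (f z - 1) ^ (p ^ (m + 1) - 1) = 0)
    (x : H ⧸ Cfsg.pPrimePCore p H) (hx : ∃ i : ℕ, x ^ p ^ i = 1) : x ^ p ^ m = 1 := by
  classical
  by_contra hxm
  obtain ⟨g, hg, rfl⟩ := exists_pElement_lift _ (QuotientGroup.mk'_surjective _) x hx
  have hgP : g ^ p ^ m ∉ Cfsg.pPrimePCore p H := fun h => hxm (by
    rw [← map_pow]; exact (QuotientGroup.eq_one_iff _).mpr h)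
  -- an algebraically closed field
  let b := Module.finBasis F V
  let k := AlgebraicClosure F
  haveI : CharP k p := charP_of_injective_algebraMap (algebraMap F k).injective p
  let φ : Module.End F V →+* Module.End k (Fin (Module.finrank F V) → k) :=
    (Matrix.toLinAlgEquiv' (R := k)).toRingEquiv.toRingHom.comp
      ((algebraMap F k).mapMatrix.comp (LinearMap.toMatrixAlgEquiv b).toRingEquiv.toRingHom)
  have hφ : Function.Injective φ := fun P Q h =>
    (LinearMap.toMatrixAlgEquiv b).injective (Matrix.map_injective (algebraMap F k).injective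
      ((Matrix.toLinAlgEquiv' (R := k)).injective h))
  have hzerok : ∀ z : H, (∃ i : ℕ, z ^ p ^ i = 1) →
      ((φ.toMonoidHom.comp f) z - 1) ^ (p ^ (m + 1) - 1) = 0 := fun z hz => by
    show (φ (f z) - 1) ^ _ = 0
    rw [← map_one φ, ← map_sub, ← map_pow, hzero z hz, map_zero]
  -- a Sylow subgroup containing `g`
  set K := Cfsg.pPrimeCore p H with hKdef
  set Pp := Cfsg.pPrimePCore p H with hPp
  have hZg : IsPGroup p (Subgroup.zpowers g) := by
    obtain ⟨i, hi⟩ := hg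
    rintro ⟨_, j, rfl⟩
    refine ⟨i, Subtype.ext ?_⟩
    show ((g ^ j : H)) ^ p ^ i = 1
    rw [← zpow_natCast, ← zpow_mul, mul_comm, zpow_mul, zpow_natCast, hi, one_zpow]
  obtain ⟨S, hgS⟩ := hZg.exists_le_sylow
  set T := (S : Subgroup H) with hT
  have hgT : g ∈ T := hgS (Subgroup.mem_zpowers g)
  set Y := Subgroup.closure {y : H | ∃ z ∈ T, y = z ^ p ^ m} with hY
  have hYT : Y ≤ T := by
    rw [hY, Subgroup.closure_le]
    rintro _ ⟨z, hz, rfl⟩
    exact T.pow_mem hz _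
  have hTY : T ≤ Subgroup.normalizer (Y : Set H) := by
    rw [Subgroup.le_normalizer_iff]
    intro t ht c hc
    have hle : Y ≤ Subgroup.comap (MulAut.conj t).toMonoidHom Y := by
      rw [hY, Subgroup.closure_le]
      rintro _ ⟨z, hz, rfl⟩
      refine Subgroup.subset_closure ⟨t * z * t⁻¹, mul_mem (mul_mem ht hz) (inv_mem ht), ?_⟩
      rw [conj_pow]
      rfl
    exact hle hc
  have hTP0 : T ≤ Subgroup.normalizer ((Pp ⊓ Y : Subgroup H) : Set H) := by
    intro t ht
    haveI : Finite ((Pp ⊓ Y : Subgroup H) : Set H) := Set.toFinite _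
    refine Subgroup.mem_normalizer_fintype ?_
    rintro w ⟨hw1, hw2⟩
    exact ⟨(inferInstance : (Cfsg.pPrimePCore p H).Normal).conj_mem w hw1 t,
      (Subgroup.mem_normalizer_iff.mp (hTY ht) w).mp hw2⟩
  obtain ⟨A, hAP, hAc, hTA, hCA⟩ := exists_abelian_selfcentralizing T (Pp ⊓ Y) S.isPGroup'
    (inf_le_right.trans hYT) hTP0
  by_cases hmove : ∃ z ∈ T, ∃ a ∈ A, z ^ p ^ m * a ≠ a * z ^ p ^ m
  · obtain ⟨z, hz, a, ha, hne⟩ := hmove
    exact false_of_moved hp2 (φ.toMonoidHom.comp f) (hφ.comp hf) hexp hzerok K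
      card_pPrimeCore_coprime (PLocal.centralizer_pPrimeCore_le hsol hO) T S.isPGroup' A
      (hAP.trans (inf_le_right.trans hYT)) hAc hTA (hAP.trans inf_le_right) hz ha hne
  push Not at hmove
  have hYA : Y ≤ Subgroup.centralizer (A : Set H) := by
    rw [hY, Subgroup.closure_le]
    rintro _ ⟨z, hz, rfl⟩ a ha
    exact (hmove z hz a ha).symm
  have hP0 : Pp ⊓ Y ≤ A := fun w hw => hCA ⟨hw, hYA hw.2⟩
  -- the module of the second layer
  set H' := H ⧸ K
  have hH1 : Cfsg.pPrimeCore p H' = ⊥ := pPrimeCore_quotient_eq_bot _ rfl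
  have hHsol : Cfsg.IsPSolvable p H' := isPSolvable_quotient hsol _
  obtain ⟨W, hW1, hW2, hW3, π, fW, hs, hπ, -, hinj, hc⟩ := exists_module hHsol hH1
  set g' : H' := QuotientGroup.mk' K g with hg'
  have hexp' : ∀ z : H', (∃ i : ℕ, z ^ p ^ i = 1) → z ^ p ^ (m + 1) = 1 := fun z hz => by
    obtain ⟨w, hw, rfl⟩ := exists_pElement_lift _ (QuotientGroup.mk'_surjective _) z hz
    rw [← map_pow, hexp w hw, map_one]
  have hord : orderOf (g' : H' ⧸ (Cfsg.pCore p H')) = p ^ (m + 1) := by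
    refine orderOf_eq_prime_pow (fun h => hgP ?_) ?_
    · rw [← mk_pow, QuotientGroup.eq_one_iff, hg', ← map_pow] at h
      exact h
    · rw [← mk_pow, hg', ← map_pow, hexp g hg, map_one]
      rfl
  obtain ⟨v, hv⟩ : ∃ v, ((fW (g' : H' ⧸ (Cfsg.pCore p H')) - 1) ^ (p ^ m + (p ^ m - 1))) v ≠ 0 := by
    obtain ⟨j, hj, hne⟩ : ∃ j, p ^ m + (p ^ m - 1) ≤ j ∧ (fW (g' : H' ⧸ (Cfsg.pCore p H')) - 1) ^ j ≠ 0 := by
      have h3 : 3 ≤ p := by have := hp.out.two_le; omega
      have hpos := pow_pos hp.out.pos m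
      rcases HallHigmanB.theoremB (isPSolvable_quotient hHsol _) (pCore_quotient_eq_bot _ rfl) fW
          hinj _ m hord with h | ⟨n₀, q, d, h1, h2, -, -, -, -, h7⟩
      · refine ⟨_, ?_, h⟩
        rw [pow_succ]
        have := Nat.mul_le_mul_left (p ^ m) h3
        omega
      · refine ⟨_, ?_, h7⟩
        have h4 : p ^ (m + 1 - n₀) * p ^ n₀ = p ^ m * p := by
          rw [← pow_add, Nat.sub_add_cancel h2, pow_succ]
        have h5 : p ^ (m + 1 - n₀) ≤ p ^ m := Nat.pow_le_pow_right hp.out.pos (by omega)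
        have h6 := Nat.mul_le_mul_left (p ^ m) h3
        rw [Nat.mul_sub, mul_one, h4]
        omega
    by_contra hall
    push Not at hall
    refine hne (LinearMap.ext fun v => ?_)
    rw [← Nat.sub_add_cancel hj, pow_add, Module.End.mul_apply, hall, map_zero,
      LinearMap.zero_apply]
  refine hv ?_
  obtain ⟨u, rfl⟩ := hs v
  -- a lift in the Sylow subgroup
  obtain ⟨S', hS'⟩ : ∃ S' : Sylow p H', (S' : Subgroup H') = T.map (QuotientGroup.mk' K) :=
    ⟨S.mapSurjective (QuotientGroup.mk'_surjective K), rfl⟩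
  obtain ⟨i, hi⟩ := IsPGroup.iff_card.mp (isPGroup_pCore (p := p) (G := H'))
  obtain ⟨S'', hS''⟩ := (IsPGroup.of_card hi).exists_le_sylow
  obtain ⟨h₀, hh₀⟩ := MulAction.exists_smul_eq H' S'' S'
  have hPS : (Cfsg.pCore p H') ≤ (S' : Subgroup H') := by
    intro w hw
    have hw' : h₀⁻¹ * w * h₀ ∈ (S'' : Subgroup H') := hS'' (by
      have h := (inferInstance : (Cfsg.pCore p H').Normal).conj_mem w hw h₀⁻¹
      rwa [inv_inv] at h)
    rw [← hh₀]
    exact ⟨_, hw', by simp [mul_assoc]⟩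
  obtain ⟨t, htT, htu⟩ : ∃ t ∈ T, QuotientGroup.mk' K t = (u : H') := by
    have := hPS u.2
    rwa [hS'] at this
  have htPp : t ∈ Pp := by
    show QuotientGroup.mk' K t ∈ Cfsg.pCore p H'
    rw [htu]
    exact u.2
  obtain ⟨w, hw, hw'⟩ := exists_mul_pow_prime_pow hπ hc u g' m
  set N := (t * g) ^ p ^ m * (g ^ p ^ m)⁻¹ with hN
  have hNw : QuotientGroup.mk' K N = (w : H') := by
    rw [hN, map_mul, map_inv, map_pow, map_pow, map_mul, htu, ← hg', hw, mul_inv_cancel_right]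
  have hNA : N ∈ A := hP0 ⟨by
      show QuotientGroup.mk' K N ∈ Cfsg.pCore p H'
      rw [hNw]
      exact w.2,
    Y.mul_mem (Subgroup.subset_closure ⟨_, mul_mem htT hgT, rfl⟩)
      (Y.inv_mem (Subgroup.subset_closure ⟨g, hgT, rfl⟩))⟩
  have hfix : coreConj (g' ^ p ^ m) w = w := Subtype.ext (by
    show g' ^ p ^ m * (w : H') * (g' ^ p ^ m)⁻¹ = w
    rw [← hNw, hg', ← map_pow, ← map_mul, ← map_inv, ← map_mul, hmove g hgT N hNA,
      mul_inv_cancel_right])
  have h1 : ((fW (g' : H' ⧸ (Cfsg.pCore p H')) - 1) ^ p ^ m) (π w) = 0 := by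
    rw [sub_one_pow_char_pow, LinearMap.sub_apply, Module.End.one_apply, ← map_pow, ← mk_pow, hc,
      hfix, sub_self]
  rw [hw'] at h1
  rw [pow_add, Module.End.mul_apply]
  exact h1

/-- The `p`-length is at most twice the exponent. -/
theorem pLengthLE_two_mul (hp2 : p ≠ 2) (e : ℕ) : ∀ {G : Type u} [Group G] [Finite G],
    Cfsg.IsPSolvable p G → (∀ x : G, (∃ i : ℕ, x ^ p ^ i = 1) → x ^ p ^ e = 1) →
    Cfsg.PLengthLE p (2 * e) G := by
  induction e with
  | zero =>
    intro G _ _ _ hexp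
    refine pLengthLE_zero_iff.mpr fun hd => ?_
    obtain ⟨x, hx⟩ := exists_prime_orderOf_dvd_card' p hd
    have := hexp x ⟨1, by rw [pow_one, ← hx, pow_orderOf_eq_one]⟩
    rw [pow_zero, pow_one] at this
    exact hp.out.ne_one (by rw [← hx, this, orderOf_one])
  | succ m ih =>
    intro G _ _ hsol hexp
    rw [show 2 * (m + 1) = 2 * m + 1 + 1 by omega]
    refine pLengthLE_of_quotient_pPrime (N := Cfsg.pPrimeCore p G) card_pPrimeCore_coprime ?_
    set K := G ⧸ Cfsg.pPrimeCore p G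
    have hK1 : Cfsg.pPrimeCore p K = ⊥ := pPrimeCore_quotient_eq_bot _ rfl
    have hKsol : Cfsg.IsPSolvable p K := isPSolvable_quotient hsol _
    have hKexp : ∀ x : K, (∃ k : ℕ, x ^ p ^ k = 1) → x ^ p ^ (m + 1) = 1 := fun x hx => by
      obtain ⟨g, hg, rfl⟩ := exists_pElement_lift _ (QuotientGroup.mk'_surjective _) x hx
      rw [← map_pow, hexp g hg, map_one]
    refine pLengthLE_succ_of_quotient_pCore ?_
    obtain ⟨V, hV1, hV2, hV3, π, f, hs, hπ, -, hinj, hc⟩ := exists_module hKsol hK1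
    have hHsol : Cfsg.IsPSolvable p (K ⧸ Cfsg.pCore p K) := isPSolvable_quotient hKsol _
    have hHexp : ∀ z : K ⧸ Cfsg.pCore p K, (∃ i : ℕ, z ^ p ^ i = 1) → z ^ p ^ (m + 1) = 1 :=
      fun z hz => by
        obtain ⟨g, hg, rfl⟩ := exists_pElement_lift _ (QuotientGroup.mk'_surjective _) z hz
        rw [← map_pow, hKexp g hg, map_one]
    have hHzero : ∀ z : K ⧸ Cfsg.pCore p K, (∃ i : ℕ, z ^ p ^ i = 1) →
        (f z - 1) ^ (p ^ (m + 1) - 1) = 0 := fun z hz => by
      obtain ⟨g, hg, rfl⟩ := exists_pElement_lift _ (QuotientGroup.mk'_surjective _) z hz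
      exact sub_one_pow_eq_zero hπ hs hc hKexp g hg
    refine pLengthLE_succ_of_quotient (N := Cfsg.pPrimePCore p (K ⧸ Cfsg.pCore p K))
      (by rw [upperPSeries_two]) (ih (isPSolvable_quotient hHsol _) ?_)
    exact fun x hx => two_layer hp2 hHsol (pCore_quotient_eq_bot _ rfl) f hinj hHexp hHzero x hx

end Cfsg.Agent.Lib.PLengthTwoE
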